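import Cfsg.Agent.H58.Zass.Perfect
import Cfsg.Agent.H28.FCBasic

/-!
Zassenhaus: perfect fixed-point-free groups of automorphisms are `SL(2,5)`.
-/

set_option autoImplicit false

namespace H58

/-- A fixed-point-free group of automorphisms of a finite group satisfies the Frobenius
complement criterion. -/
theorem fcInt_of_fpf_aut {G K : Type*} [Group G] [Finite G] [Nontrivial G] [Group K] [Finite K]
    [Nontrivial K] (φ : G →* MulAut K) (hfpf : ∀ g : G, g ≠ 1 → ∀ k : K, φ g k = k → k = 1) :
    H28.FCInt G := by
  haveI : Finite (K ⋊[φ] G) := Finite.of_equiv _ SemidirectProduct.equivProd.symm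
  let N : Subgroup (K ⋊[φ] G) := SemidirectProduct.inl.range
  let H : Subgroup (K ⋊[φ] G) := SemidirectProduct.inr.range
  haveI : N.Normal := by
    rw [show N = SemidirectProduct.rightHom.ker from SemidirectProduct.range_inl_eq_ker_rightHom]
    infer_instance
  have hc : Subgroup.IsComplement' N H := by
    refine Subgroup.isComplement'_of_card_mul_and_disjoint ?_ ?_
    · rw [Nat.card_congr SemidirectProduct.equivProd, Nat.card_prod]
      congr 1
      · exact (Nat.card_congr (MonoidHom.ofInjective SemidirectProduct.inl_injective).toEquiv).symm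
      · exact (Nat.card_congr (MonoidHom.ofInjective SemidirectProduct.inr_injective).toEquiv).symm
    · rw [Subgroup.disjoint_def]
      rintro x ⟨v, rfl⟩ ⟨g, hg⟩
      have h1 := congrArg SemidirectProduct.left hg
      simp at h1
      rw [← h1, map_one]
  have hN : N ≠ ⊥ := by
    intro h
    obtain ⟨v, hv⟩ := exists_ne (1 : K)
    exact hv ((injective_iff_map_eq_one _).mp SemidirectProduct.inl_injective v
      (Subgroup.mem_bot.mp (by rw [← h]; exact ⟨v, rfl⟩)))
  have hH : H ≠ ⊥ := by
    intro h
    obtain ⟨v, hv⟩ := exists_ne (1 : G)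
    exact hv ((injective_iff_map_eq_one _).mp SemidirectProduct.inr_injective v
      (Subgroup.mem_bot.mp (by rw [← h]; exact ⟨v, rfl⟩)))
  have hFC : Cfsg.IsFrobeniusComplement H := by
    refine H2.frobenius_of_fpf hc hN hH ?_
    rintro _ ⟨g, rfl⟩ hg
    rw [eq_bot_iff]
    rintro _ ⟨⟨v, rfl⟩, hv⟩
    have h1 := congrArg SemidirectProduct.left (Subgroup.mem_centralizer_singleton_iff.mp hv)
    simp at h1
    rw [hfpf g (fun e => hg (by rw [e, map_one])) v h1.symm, map_one]
    exact one_mem _
  exact H28.fcInt_congr (MonoidHom.ofInjective SemidirectProduct.inr_injective).symm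
    (H28.fcInt_of_isFC hFC)

/-- **Zassenhaus.** A perfect non-trivial Frobenius complement is `SL(2,5)`. -/
theorem perfect_fpf_iso_sl25 {G : Type*} [Group G] [Finite G] [Nontrivial G]
    (hFC : H28.FCInt G) (h : commutator G = ⊤) :
    Nonempty (G ≃* Matrix.SpecialLinearGroup (Fin 2) (ZMod 5)) :=
  Zass.perfect_iso hFC h

end H58
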