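import Cfsg.Agent.H58.Zass.Graph
import Cfsg.Agent.H2.SolvableComplement
import Cfsg.Agent.H5.Frobenius
import Cfsg.Agent.H65.CyclicSylow
import Cfsg.Agent.H33.TwoPrime
import Cfsg.Agent.H59.A5Char
import Cfsg.Agent.H58.AutQ8
import Cfsg.Agent.S3378

/-!
Zassenhaus: a perfect Frobenius complement is `SL(2,5)`.
-/

set_option autoImplicit false

namespace H58.Zass

variable {G : Type*} [Group G]

theorem not_solvable_of_perfect [Nontrivial G] (h : commutator G = ⊤) : ¬ Group.IsSolvable G := by
  intro hs
  haveI := hs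
  exact (Group.IsSolvable.commutator_lt_top_of_nontrivial G).ne h

theorem perfect_map {H : Type*} [Group H] (f : G →* H) (hf : Function.Surjective f)
    (h : commutator G = ⊤) : commutator H = ⊤ := by
  rw [commutator_def, ← Subgroup.map_top_of_surjective f hf, ← Subgroup.map_commutator, ← commutator_def, h]

theorem hom_trivial {H : Type*} [Group H] (hH : ∀ a b : H, a * b = b * a) (h : commutator G = ⊤)
    (f : G →* H) (g : G) : f g = 1 := by
  letI : CommGroup H := { (inferInstance : Group H) with mul_comm := hH }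
  exact (h ▸ Abelianization.commutator_subset_ker f) (Subgroup.mem_top g)

theorem mulAut_comm {H : Type*} [Group H] [IsCyclic H] (a c : MulAut H) : a * c = c * a := by
  obtain ⟨g, hg⟩ := IsCyclic.exists_generator (α := H)
  obtain ⟨m, hm⟩ := Subgroup.mem_zpowers_iff.mp (hg (a g))
  obtain ⟨n, hn⟩ := Subgroup.mem_zpowers_iff.mp (hg (c g))
  ext x
  obtain ⟨k, rfl⟩ := Subgroup.mem_zpowers_iff.mp (hg x)
  simp only [MulAut.mul_apply, map_zpow, ← hm, ← hn, ← zpow_mul]
  ring_nf

variable [Finite G]

/-- A perfect group has no non-trivial central `p`-element when a Sylow subgroup is abelian. -/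
theorem central_eq_one (h : commutator G = ⊤) {p : ℕ} [Fact p.Prime] (P : Sylow p G)
    (hP : IsMulCommutative P) {z : G} (hz : ∀ g, g * z = z * g) (hzp : z ^ p = 1) : z = 1 := by
  classical
  haveI := hP
  by_contra hne
  have ho : orderOf z = p := orderOf_eq_prime hzp hne
  have hpg : IsPGroup p (Subgroup.zpowers z) := IsPGroup.of_card (n := 1) (by rw [Nat.card_zpowers, ho, pow_one])
  obtain ⟨Q, hQ⟩ := hpg.exists_le_sylow
  obtain ⟨g, hg⟩ := MulAction.exists_smul_eq G Q P
  have hzP : z ∈ (P : Subgroup G) := by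
    rw [← hg, Sylow.coe_subgroup_smul]
    have := Subgroup.smul_mem_pointwise_smul z (MulAut.conj g) _ (hQ (Subgroup.mem_zpowers z))
    rwa [MulAut.smul_def, MulAut.conj_apply, hz g, mul_inv_cancel_right] at this
  letI : CommGroup (P : Subgroup G) := { (inferInstance : Group (P : Subgroup G)) with mul_comm := fun a b => hP.is_comm.comm a b }
  let τ := MonoidHom.transfer (MonoidHom.id (P : Subgroup G))
  have key : ∀ (k : ℕ) (g₀ : G), g₀⁻¹ * z ^ k * g₀ ∈ (P : Subgroup G) → g₀⁻¹ * z ^ k * g₀ = z ^ k := by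
    intro k g₀ _
    rw [mul_assoc, ← (Commute.pow_right (hz g₀ : Commute g₀ z) k).eq, inv_mul_cancel_left]
  have h1 := hom_trivial (fun a b => hP.is_comm.comm a b) h τ z
  rw [MonoidHom.transfer_eq_pow _ z key, MonoidHom.id_apply] at h1
  have h2 : orderOf z ∣ (P : Subgroup G).index := orderOf_dvd_of_pow_eq_one (congrArg Subtype.val h1)
  rw [ho] at h2
  exact P.not_dvd_index h2

variable [Nontrivial G]

theorem two_dvd (hFC : H28.FCInt G) (h : commutator G = ⊤) : 2 ∣ Nat.card G := by
  by_contra h2
  haveI : IsZGroup G := ⟨fun p hp P => by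
    haveI := Fact.mk hp
    by_cases hd : p ∣ Nat.card G
    · exact H2.fcInt_isCyclic_sylow hFC (fun e => h2 (e ▸ hd)) P.2
    · have hb : (P : Subgroup G) = ⊥ := Subgroup.eq_bot_of_card_eq _ (by
        rw [Sylow.card_eq_multiplicity, Nat.factorization_eq_zero_of_not_dvd hd, pow_zero])
      rw [hb]
      infer_instance⟩
  exact not_solvable_of_perfect h inferInstance

theorem three_dvd (hFC : H28.FCInt G) (h : commutator G = ⊤) : 3 ∣ Nat.card G := by
  classical
  by_contra h3
  haveI : Fact (Nat.Prime 2) := ⟨Nat.prime_two⟩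
  obtain ⟨P⟩ : Nonempty (Sylow 2 G) := inferInstance
  have hn : Cfsg.HasNormalPComplement 2 G := by
    refine H5.hasNormalPComplement_of_frobenius P fun Q hQ g hg hodd => ?_
    let N := Subgroup.normalizer (Q : Set G)
    let φ : N →* MulAut Q :=
      { toFun := fun n =>
          { toFun := fun q => ⟨n * q * (n : G)⁻¹, (Subgroup.mem_normalizer_iff.mp n.2 q).mp q.2⟩
            invFun := fun q => ⟨(n : G)⁻¹ * q * n, (Subgroup.mem_normalizer_iff.mp n.2 _).mpr (by group; exact q.2)⟩
            left_inv := fun q => by ext; simp [mul_assoc]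
            right_inv := fun q => by ext; simp [mul_assoc]
            map_mul' := fun q r => by ext; simp [mul_assoc] }
        map_one' := by ext; simp
        map_mul' := fun a b => by ext; simp [mul_assoc] }
    have hQ2 : IsPGroup 2 Q := IsPGroup.to_le P.2 hQ
    have hAut : orderOf (φ ⟨g, hg⟩) = 1 := by
      have hd : orderOf (φ ⟨g, hg⟩) ∣ orderOf g := by
        rw [← Subgroup.orderOf_mk g hg]
        exact orderOf_map_dvd φ _
      have hg3 : ¬ 3 ∣ orderOf g := fun e => h3 (e.trans (orderOf_dvd_natCard g))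
      obtain ⟨a, ha⟩ : ∃ a, Nat.card (MulAut Q) ∣ 3 * 2 ^ a := by
        rcases H2.fcInt_isCyclic_or_quaternion hFC hQ2 with hc | ⟨k, ⟨e⟩⟩
        · haveI := hc
          obtain ⟨a, ha⟩ := IsPGroup.iff_card.mp (H70.isPGroup_two_mulAut_cyclic hQ2)
          exact ⟨a, ha ▸ dvd_mul_left _ _⟩
        · rcases (show k = 0 ∨ k = 1 ∨ 2 ≤ k by omega) with rfl | rfl | hk
          · haveI : IsCyclic Q :=
              haveI : IsCyclic (QuaternionGroup (2 ^ 0)) := QuaternionGroup.quaternionGroup_one_isCyclic
              isCyclic_of_surjective e.symm e.symm.surjective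
            obtain ⟨a, ha⟩ := IsPGroup.iff_card.mp (H70.isPGroup_two_mulAut_cyclic hQ2)
            exact ⟨a, ha ▸ dvd_mul_left _ _⟩
          · refine ⟨3, ?_⟩
            rw [Nat.card_congr (MulAut.congr e).toEquiv]
            show Nat.card (MulAut (QuaternionGroup 2)) ∣ 3 * 2 ^ 3
            rw [H58.card_mulAut_q8]; norm_num
          · obtain ⟨a, ha⟩ := IsPGroup.iff_card.mp (H86.isPGroup_two_mulAut_quaternion k hk)
            exact ⟨a, by rw [Nat.card_congr (MulAut.congr e).toEquiv, ha]; exact dvd_mul_left _ _⟩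
      have hcop : (orderOf g).Coprime (3 * 2 ^ a) :=
        Nat.Coprime.mul_right ((Nat.prime_three.coprime_iff_not_dvd.mpr hg3).symm) (hodd.pow_right a)
      exact Nat.eq_one_of_dvd_coprimes hcop hd ((orderOf_dvd_natCard _).trans ha)
    rw [Subgroup.mem_centralizer_iff]
    intro q hq
    have h1 := congrArg Subtype.val (MulEquiv.congr_fun (orderOf_eq_one_iff.mp hAut) ⟨q, hq⟩)
    exact (mul_inv_eq_iff_eq_mul.mp (show g * q * g⁻¹ = q from h1)).symm
  obtain ⟨P', N, hN, hc⟩ := hn
  haveI := hN
  have hNtop : N = ⊤ := by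
    by_contra hne
    have hp : IsPGroup 2 (G ⧸ N) := by
      obtain ⟨n, hn⟩ := IsPGroup.iff_card.mp P'.2
      refine IsPGroup.of_card (n := n) ?_
      rw [← hn, ← hc.symm.index_eq_card]
      rfl
    haveI : Nontrivial (G ⧸ N) := by
      rw [← not_subsingleton_iff_nontrivial]
      intro hs
      exact hne (QuotientGroup.subsingleton_iff.mp hs)
    haveI := hp.isNilpotent
    exact not_solvable_of_perfect (perfect_map _ (QuotientGroup.mk'_surjective N) h) inferInstance
  have h2 := two_dvd hFC h
  have hP1 : Nat.card P' = 1 := by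
    rw [← hc.symm.index_eq_card, hNtop, Subgroup.index_top]
  rw [Sylow.card_eq_multiplicity] at hP1
  have := Nat.prime_two.factorization_pos_of_dvd Nat.card_pos.ne' h2
  exact (Nat.one_lt_two_pow this.ne').ne' hP1

theorem perfect_small_order {Q : Type*} [Group Q] [Finite Q] [Nontrivial Q] (h : commutator Q = ⊤)
    {o e : ℕ} (hQ : Nat.card Q = o * e) (he : e = 3 ∨ e = 6)
    (ho : o ∈ ({1, 2, 4, 7, 8, 10, 13, 14, 16, 20, 26, 32} : Finset ℕ)) :
    Nat.card Q = 60 ∨ Nat.card Q = 120 := by
  have hns := not_solvable_of_perfect h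
  have two_primes : ∀ a b : ℕ, Nat.card Q = 2 ^ a * 3 ^ b → False := by
    intro a b hab
    refine hns (H33.isSolvable_of_two_primes Nat.prime_two Nat.prime_three fun r hr hd => ?_)
    rw [hab] at hd
    rcases hr.dvd_mul.mp hd with hd | hd
    · exact Or.inl ((Nat.prime_dvd_prime_iff_eq hr Nat.prime_two).mp (hr.dvd_of_dvd_pow hd))
    · exact Or.inr ((Nat.prime_dvd_prime_iff_eq hr Nat.prime_three).mp (hr.dvd_of_dvd_pow hd))
  have sqfree : Squarefree (Nat.card Q) → False := fun hs => by
    haveI := IsZGroup.of_squarefree hs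
    exact hns inferInstance
  have sylow : ∀ q : ℕ, q.Prime → Nat.card Q = q * 12 → ¬ q ∣ 12 → (∀ d, d ∣ 12 → d % q = 1 → d = 1) → False := by
    intro q hq hcard hnd hone
    haveI := Fact.mk hq
    obtain ⟨P⟩ : Nonempty (Sylow q Q) := inferInstance
    have hP : Nat.card P = q := by
      rw [Sylow.card_eq_multiplicity, hcard, Nat.factorization_mul hq.ne_zero (by norm_num),
        Finsupp.add_apply, hq.factorization_self, Nat.factorization_eq_zero_of_not_dvd hnd, pow_one]
    have hidx : (P : Subgroup Q).index = 12 := by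
      have := (P : Subgroup Q).card_mul_index
      rw [hP, hcard] at this
      exact Nat.eq_of_mul_eq_mul_left hq.pos this
    have h1 : Nat.card (Sylow q Q) = 1 := hone _ (hidx ▸ P.card_dvd_index) (by
      have := card_sylow_modEq_one q Q
      rw [Nat.ModEq, Nat.one_mod_eq_one.mpr hq.one_lt.ne'] at this
      exact this)
    haveI : Subsingleton (Sylow q Q) := (Nat.card_eq_one_iff_unique.mp h1).1
    haveI := P.normal_of_subsingleton
    haveI : Nontrivial (Q ⧸ (P : Subgroup Q)) := Finite.one_lt_card_iff_nontrivial.mp (by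
      show 1 < (P : Subgroup Q).index
      omega)
    have h2 : Group.IsSolvable (Q ⧸ (P : Subgroup Q)) :=
      H33.isSolvable_of_two_primes Nat.prime_two Nat.prime_three fun r hr hd => by
        rw [show Nat.card (Q ⧸ (P : Subgroup Q)) = 2 ^ 2 * 3 ^ 1 from hidx] at hd
        rcases hr.dvd_mul.mp hd with hd | hd
        · exact Or.inl ((Nat.prime_dvd_prime_iff_eq hr Nat.prime_two).mp (hr.dvd_of_dvd_pow hd))
        · exact Or.inr ((Nat.prime_dvd_prime_iff_eq hr Nat.prime_three).mp (hr.dvd_of_dvd_pow hd))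
    exact not_solvable_of_perfect (perfect_map _ (QuotientGroup.mk'_surjective _) h) h2
  simp only [Finset.mem_insert, Finset.mem_singleton] at ho
  rcases he with rfl | rfl <;>
    rcases ho with rfl | rfl | rfl | rfl | rfl | rfl | rfl | rfl | rfl | rfl | rfl | rfl <;>
    first
      | (exact Or.inl hQ)
      | (exact Or.inr hQ)
      | (exfalso; refine sqfree ?_; rw [hQ]; decide)
      | (exfalso; refine sqfree ?_; rw [hQ]; decide +kernel)
      | (exfalso; exact two_primes 0 1 hQ)
      | (exfalso; exact two_primes 1 1 hQ)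
      | (exfalso; exact two_primes 2 1 hQ)
      | (exfalso; exact two_primes 3 1 hQ)
      | (exfalso; exact two_primes 4 1 hQ)
      | (exfalso; exact two_primes 5 1 hQ)
      | (exfalso; exact two_primes 6 1 hQ)
      | (exfalso; exact sylow 7 (by norm_num) hQ (by norm_num) (fun d hd hd' => by
          have := Nat.le_of_dvd (by norm_num) hd
          interval_cases d <;> omega))
      | (exfalso; exact sylow 13 (by norm_num) hQ (by norm_num) (fun d hd hd' => by
          have := Nat.le_of_dvd (by norm_num) hd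
          interval_cases d <;> omega))

/-- **Zassenhaus.** A perfect Frobenius complement is `SL(2,5)`. -/
theorem perfect_iso (hFC : H28.FCInt G) (h : commutator G = ⊤) :
    Nonempty (G ≃* Matrix.SpecialLinearGroup (Fin 2) (ZMod 5)) := by
  classical
  haveI : Fintype G := Fintype.ofFinite G
  haveI : Fact (Nat.Prime 3) := ⟨Nat.prime_three⟩
  haveI : Fact (Nat.Prime 2) := ⟨Nat.prime_two⟩
  obtain ⟨R⟩ := exists_rep hFC
  obtain ⟨b, hb⟩ := exists_prime_orderOf_dvd_card' 3 (three_dvd hFC h)
  have hb3 : b * b * b = 1 := by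
    rw [← pow_two, ← pow_succ, show 2 + 1 = orderOf b by rw [hb], pow_orderOf_eq_one]
  have hbb : b * b = b⁻¹ := eq_inv_of_mul_eq_one_left hb3
  have hcentral : ∀ z : G, orderOf z = 2 → ∀ g, g * z = z * g := fun z hz g => R.faithful (by
    rw [map_mul, map_mul, R.invol_eq z hz]; simp)
  have huniq : ∀ z w : G, orderOf z = 2 → orderOf w = 2 → z = w := fun z w hz hw =>
    R.faithful (by rw [R.invol_eq z hz, R.invol_eq w hw])
  have hcomm3 : ∀ c y : G, orderOf c = 3 → orderOf y = 3 → Commute c y → y = c ∨ y = c⁻¹ := by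
    intro c y hc hy hcy
    have h3 : orderOf (c * y) ∣ 3 := by
      have := hcy.orderOf_mul_dvd_lcm
      rwa [hc, hy, Nat.lcm_self] at this
    rcases R.order_cases hc hy with e | e | e | e | e
    · exact Or.inl e
    · exact Or.inr e
    all_goals (rw [e] at h3; norm_num at h3)
  -- a frame
  obtain ⟨i, hi⟩ : ∃ i, IsFrame b i := by
    by_contra hno
    push Not at hno
    have hall : ∀ y, orderOf y = 3 → y = b ∨ y = b⁻¹ := by
      intro y hy
      rcases R.order_cases hb hy with e | e | e | e | e
      · exact Or.inl e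
      · exact Or.inr e
      · exact absurd (show IsFrame b (b * y) from ⟨e, by simpa using hy⟩) (hno _)
      · exact absurd (show IsFrame b (b * y⁻¹) from
          ⟨R.anticomm_of_six hb hy e, by simpa [orderOf_inv] using hy⟩) (hno _)
      · obtain ⟨h4, -⟩ := R.conj_neighbour hb hy (R.sq_anticomm_ten hb hy e)
        exact absurd (show IsFrame b (b * (y * b * y⁻¹)) from
          ⟨h4, by simpa [orderOf_conj'] using hb⟩) (hno _)
    haveI hn : (Subgroup.zpowers b).Normal := ⟨fun x hx g => by
      have hgb : g * b * g⁻¹ ∈ Subgroup.zpowers b := by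
        rcases hall _ ((orderOf_conj' g b).trans hb) with e | e <;> rw [e]
        · exact Subgroup.mem_zpowers b
        · exact inv_mem (Subgroup.mem_zpowers b)
      obtain ⟨k, rfl⟩ := Subgroup.mem_zpowers_iff.mp hx
      rw [← conj_zpow]
      exact Subgroup.zpow_mem _ hgb k⟩
    have hcz : ∀ g : G, g * b = b * g := by
      intro g
      have := hom_trivial (mulAut_comm (H := Subgroup.zpowers b)) h
        (MulAut.conjNormal (H := Subgroup.zpowers b)) g
      have h1 := congrArg Subtype.val (MulEquiv.congr_fun this ⟨b, Subgroup.mem_zpowers b⟩)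
      exact mul_inv_eq_iff_eq_mul.mp h1
    obtain ⟨P⟩ : Nonempty (Sylow 3 G) := inferInstance
    haveI : IsCyclic P := H2.fcInt_isCyclic_sylow hFC (by norm_num) P.2
    have := central_eq_one h P inferInstance hcz (by rw [← hb, pow_orderOf_eq_one])
    rw [this, orderOf_one] at hb
    omega
  -- the common centraliser of the elements of order three
  set S := Finset.univ.filter fun y : G => orderOf y = 3 with hS
  set Z := Subgroup.centralizer ({y : G | orderOf y = 3} : Set G) with hZ
  haveI hZn : Z.Normal := by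
    refine ⟨fun n hn g => ?_⟩
    rw [hZ, Subgroup.mem_centralizer_iff] at hn ⊢
    intro y hy
    have := hn (g⁻¹ * y * g⁻¹⁻¹) ((orderOf_conj' g⁻¹ y).trans hy)
    calc y * (g * n * g⁻¹) = g * (g⁻¹ * y * g⁻¹⁻¹ * n) * g⁻¹ := by group
      _ = g * n * g⁻¹ * y := by rw [this]; group
  have hib : ¬ Commute b i := by
    intro hc
    have h12 : orderOf (b⁻¹ * i) = 12 := by
      rw [hc.inv_left.orderOf_mul_eq_mul_orderOf_of_coprime (by rw [orderOf_inv, hb, hi.1]; norm_num),
        orderOf_inv, hb, hi.1]
    rw [hi.2] at h12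
    omega
  have hZiff : ∀ g, g ∈ Z ↔ Commute g b ∧ Commute g i := by
    intro g
    rw [hZ, Subgroup.mem_centralizer_iff]
    refine ⟨fun hg => ?_, fun hg y hy => (R.commute_all hb hi hg.1 hg.2 hy).symm.eq⟩
    have h1 : Commute g b := (hg b hb).symm
    refine ⟨h1, ?_⟩
    have := h1.mul_right (show Commute g (b⁻¹ * i) from (hg _ hi.2).symm)
    simpa using this
  set C := Subgroup.centralizer ({b} : Set G) with hC
  have hCmem : ∀ g, g ∈ C ↔ Commute g b := fun g => Subgroup.mem_centralizer_singleton_iff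
  -- the orbit of the frame
  set O₂ := (Finset.univ.filter fun c : G => c ∈ C).image fun c => c * i * c⁻¹ with hO₂
  have he_eq : Nat.card (C ⧸ Z.subgroupOf C) = O₂.card := by
    rw [← Nat.card_eq_finsetCard]
    refine Nat.card_eq_of_bijective (Quotient.lift (fun c : C =>
      (⟨(c : G) * i * (c : G)⁻¹, Finset.mem_image.mpr ⟨c, Finset.mem_filter.mpr ⟨Finset.mem_univ _, c.2⟩, rfl⟩⟩ : O₂)) ?_) ⟨?_, ?_⟩
    · intro a c hac
      have hz := ((hZiff _).mp (Subgroup.mem_subgroupOf.mp (QuotientGroup.leftRel_apply.mp hac))).2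
      apply Subtype.ext
      show (a : G) * i * (a : G)⁻¹ = c * i * (c : G)⁻¹
      have := hz.eq
      push_cast at this
      calc (a : G) * i * (a : G)⁻¹ = a * (i * ((a : G)⁻¹ * c)) * (c : G)⁻¹ := by group
        _ = c * i * (c : G)⁻¹ := by rw [← this]; group
    · intro x y
      induction x using Quotient.inductionOn with | h a => ?_
      induction y using Quotient.inductionOn with | h c => ?_
      intro e
      have e' : (a : G) * i * (a : G)⁻¹ = c * i * (c : G)⁻¹ := congrArg Subtype.val e
      refine Quotient.sound (QuotientGroup.leftRel_apply.mpr (Subgroup.mem_subgroupOf.mpr ((hZiff _).mpr ⟨?_, ?_⟩)))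
      · exact (hCmem _).mp (a⁻¹ * c).2
      · show ((a⁻¹ * c : C) : G) * i = i * ((a⁻¹ * c : C) : G)
        push_cast
        calc (a : G)⁻¹ * c * i = (a : G)⁻¹ * (c * i * (c : G)⁻¹) * c := by group
          _ = i * ((a : G)⁻¹ * c) := by rw [← e']; group
    · rintro ⟨_, hx⟩
      obtain ⟨c, hc, rfl⟩ := Finset.mem_image.mp hx
      exact ⟨Quotient.mk _ ⟨c, (Finset.mem_filter.mp hc).2⟩, rfl⟩
  have he6 : O₂.card ≤ 6 := by
    refine le_trans ?_ (R.card_frames_le hb)
    refine Finset.card_le_card_of_injOn (b⁻¹ * ·) (fun x hx => ?_) (fun x _ y _ e => mul_left_cancel e)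
    obtain ⟨c, hc, rfl⟩ := Finset.mem_image.mp hx
    have hcb := (hCmem c).mp (Finset.mem_filter.mp hc).2
    simp only [Finset.coe_filter, Finset.mem_univ, true_and, Set.mem_setOf_eq, mul_inv_cancel_left]
    refine ⟨?_, (orderOf_conj' c i).trans hi.1⟩
    rw [show b⁻¹ * (c * i * c⁻¹) = c * (b⁻¹ * i) * c⁻¹ by
      rw [← mul_assoc, ← mul_assoc, ← (hcb.inv_right).eq]; group, orderOf_conj', hi.2]
  have he3 : 3 ∣ Nat.card (C ⧸ Z.subgroupOf C) := by
    have hbC : b ∈ C := (hCmem b).mpr (Commute.refl b)
    have ho : orderOf (QuotientGroup.mk' (Z.subgroupOf C) ⟨b, hbC⟩) = 3 := by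
      refine orderOf_eq_prime (by rw [← map_pow, show (⟨b, hbC⟩ : C) ^ 3 = 1 from Subtype.ext (by simp [pow_succ, hb3]), map_one]) ?_
      intro e
      rw [QuotientGroup.mk'_apply, QuotientGroup.eq_one_iff, Subgroup.mem_subgroupOf] at e
      exact hib ((hZiff b).mp e).2
    exact ho ▸ orderOf_dvd_natCard _
  -- the conjugates of `b`
  set O₁ := Finset.univ.image fun g : G => g * b * g⁻¹ with hO₁
  have hC_idx : C.index = O₁.card := by
    rw [← Nat.card_eq_finsetCard]
    refine Nat.card_eq_of_bijective (Quotient.lift (fun g : G =>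
      (⟨g * b * g⁻¹, Finset.mem_image.mpr ⟨g, Finset.mem_univ _, rfl⟩⟩ : O₁)) ?_) ⟨?_, ?_⟩
    · intro a c hac
      have hz := ((hCmem _).mp (QuotientGroup.leftRel_apply.mp hac)).eq
      apply Subtype.ext
      show a * b * a⁻¹ = c * b * c⁻¹
      calc a * b * a⁻¹ = a * (b * (a⁻¹ * c)) * c⁻¹ := by group
        _ = c * b * c⁻¹ := by rw [← hz]; group
    · intro x y
      induction x using Quotient.inductionOn with | h a => ?_
      induction y using Quotient.inductionOn with | h c => ?_
      intro e
      have e' : a * b * a⁻¹ = c * b * c⁻¹ := congrArg Subtype.val e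
      refine Quotient.sound (QuotientGroup.leftRel_apply.mpr ((hCmem _).mpr ?_))
      show a⁻¹ * c * b = b * (a⁻¹ * c)
      calc a⁻¹ * c * b = a⁻¹ * (c * b * c⁻¹) * c := by group
        _ = b * (a⁻¹ * c) := by rw [← e']; group
    · rintro ⟨_, hx⟩
      obtain ⟨g, -, rfl⟩ := Finset.mem_image.mp hx
      exact ⟨Quotient.mk _ g, rfl⟩
  have hO₁S : O₁ ⊆ S := fun x hx => by
    obtain ⟨g, -, rfl⟩ := Finset.mem_image.mp hx
    exact Finset.mem_filter.mpr ⟨Finset.mem_univ _, (orderOf_conj' g b).trans hb⟩
  have hconjS : ∀ y ∈ S, y ∈ O₁ ∨ y⁻¹ ∈ O₁ := by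
    intro y hy
    rw [hS, Finset.mem_filter] at hy
    obtain ⟨P, hP⟩ := (IsPGroup.of_card (p := 3) (n := 1) (G := Subgroup.zpowers y)
      (by rw [Nat.card_zpowers, hy.2, pow_one])).exists_le_sylow
    obtain ⟨P', hP'⟩ := (IsPGroup.of_card (p := 3) (n := 1) (G := Subgroup.zpowers b)
      (by rw [Nat.card_zpowers, hb, pow_one])).exists_le_sylow
    obtain ⟨g, hg⟩ := MulAction.exists_smul_eq G P' P
    have hgb : g * b * g⁻¹ ∈ (P : Subgroup G) := by
      rw [← hg, Sylow.coe_subgroup_smul]
      exact Subgroup.smul_mem_pointwise_smul b (MulAut.conj g) _ (hP' (Subgroup.mem_zpowers b))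
    haveI : IsCyclic P := H2.fcInt_isCyclic_sylow hFC (by norm_num) P.2
    have hc : Commute (g * b * g⁻¹) y := by
      have := IsMulCommutative.is_comm.comm (⟨_, hgb⟩ : P) ⟨y, hP (Subgroup.mem_zpowers y)⟩
      exact congrArg Subtype.val this
    rcases hcomm3 _ y ((orderOf_conj' g b).trans hb) hy.2 hc with e | e
    · exact Or.inl (e ▸ Finset.mem_image.mpr ⟨g, Finset.mem_univ _, rfl⟩)
    · exact Or.inr (by rw [e, inv_inv]; exact Finset.mem_image.mpr ⟨g, Finset.mem_univ _, rfl⟩)
  have hinvO : ∀ g : G, g * b⁻¹ * g⁻¹ = (g * b * g⁻¹)⁻¹ := fun g => by group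
  have hScard : S.card = O₁.card ∨ S.card = 2 * O₁.card := by
    by_cases hself : b⁻¹ ∈ O₁
    · left
      obtain ⟨g₀, -, hg₀⟩ := Finset.mem_image.mp hself
      refine congrArg Finset.card (Finset.Subset.antisymm (fun y hy => ?_) hO₁S)
      rcases hconjS y hy with e | e
      · exact e
      · obtain ⟨g, -, hg⟩ := Finset.mem_image.mp e
        refine Finset.mem_image.mpr ⟨g * g₀, Finset.mem_univ _, ?_⟩
        rw [show g * g₀ * b * (g * g₀)⁻¹ = g * (g₀ * b * g₀⁻¹) * g⁻¹ by group, hg₀, hinvO, hg, inv_inv]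
    · right
      have hd : Disjoint O₁ (O₁.image (·⁻¹)) := by
        rw [Finset.disjoint_right]
        intro y hy hy'
        obtain ⟨w, hw, rfl⟩ := Finset.mem_image.mp hy
        obtain ⟨g, -, rfl⟩ := Finset.mem_image.mp hw
        obtain ⟨g', -, hg'⟩ := Finset.mem_image.mp hy'
        refine hself (Finset.mem_image.mpr ⟨g⁻¹ * g', Finset.mem_univ _, ?_⟩)
        rw [show g⁻¹ * g' * b * (g⁻¹ * g')⁻¹ = g⁻¹ * (g' * b * g'⁻¹) * g by group, hg']
        group
      have hSeq : S = O₁ ∪ O₁.image (·⁻¹) := by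
        refine Finset.Subset.antisymm (fun y hy => ?_) (Finset.union_subset hO₁S fun y hy => ?_)
        · rcases hconjS y hy with e | e
          · exact Finset.mem_union_left _ e
          · exact Finset.mem_union_right _ (Finset.mem_image.mpr ⟨_, e, inv_inv y⟩)
        · obtain ⟨w, hw, rfl⟩ := Finset.mem_image.mp hy
          refine Finset.mem_filter.mpr ⟨Finset.mem_univ _, ?_⟩
          rw [orderOf_inv]
          exact (Finset.mem_filter.mp (hO₁S hw)).2
      rw [hSeq, Finset.card_union_of_disjoint hd, Finset.card_image_of_injective _ inv_injective]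
      omega
  have hmod : S.card % 3 = 2 := by
    let α := {y : G // orderOf y = 3}
    let f : Function.End α := fun y => ⟨b * y.1 * b⁻¹, (orderOf_conj' b y.1).trans y.2⟩
    have hf : f ^ 3 ^ 1 = 1 := by
      funext y
      apply Subtype.ext
      show b * (b * (b * y.1 * b⁻¹) * b⁻¹) * b⁻¹ = y.1
      calc _ = b * b * b * y.1 * (b * b * b)⁻¹ := by group
        _ = y.1 := by rw [hb3]; group
    have h1 := Equiv.Perm.card_fixedPoints_modEq hf
    have h2 : Fintype.card f.fixedPoints = 2 := by
      have hne : b ≠ b⁻¹ := fun e => by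
        have := hb3
        rw [show b * b = 1 by nth_rewrite 2 [e]; exact mul_inv_cancel b, one_mul] at this
        rw [this, orderOf_one] at hb
        omega
      rw [← Nat.card_eq_fintype_card, Nat.card_coe_set_eq]
      rw [show (f.fixedPoints : Set α) = {⟨b, hb⟩, ⟨b⁻¹, (orderOf_inv b).trans hb⟩} from ?_]
      · exact Set.ncard_pair (fun e => hne (congrArg Subtype.val e))
      · ext y
        simp only [Set.mem_insert_iff, Set.mem_singleton_iff]
        constructor
        · intro hy
          rcases hcomm3 b y.1 hb y.2 (mul_inv_eq_iff_eq_mul.mp (congrArg Subtype.val hy)) with e | e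
          · exact Or.inl (Subtype.ext e)
          · exact Or.inr (Subtype.ext e)
        · intro hy
          apply Subtype.ext
          show b * y.1 * b⁻¹ = y.1
          rcases hy with rfl | rfl <;> group
    rw [h2, Nat.ModEq, Fintype.card_subtype] at h1
    omega
  have hS32 : S.card ≤ 32 := R.card_order_three_le hb
  have hidx : Z.index = O₁.card * Nat.card (C ⧸ Z.subgroupOf C) := by
    rw [← hC_idx, ← Subgroup.relIndex_mul_index (H := Z) (K := C) (fun g hg => (hCmem g).mpr ((hZiff g).mp hg).1)]
    exact mul_comm _ _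
  have hZne : Z ≠ ⊤ := fun e => hib (((hZiff b).mp (e ▸ Subgroup.mem_top b)).2)
  haveI : Nontrivial (G ⧸ Z) := by
    rw [← not_subsingleton_iff_nontrivial]
    intro hs
    exact hZne (QuotientGroup.subsingleton_iff.mp hs)
  have hQperf : commutator (G ⧸ Z) = ⊤ := perfect_map _ (QuotientGroup.mk'_surjective Z) h
  have hQ : Nat.card (G ⧸ Z) = 60 ∨ Nat.card (G ⧸ Z) = 120 := by
    refine perfect_small_order hQperf (o := O₁.card) (e := Nat.card (C ⧸ Z.subgroupOf C)) hidx ?_ ?_
    · rw [he_eq] at he3 ⊢
      have : 0 < O₂.card := Finset.card_pos.mpr ⟨i, Finset.mem_image.mpr ⟨1,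
        Finset.mem_filter.mpr ⟨Finset.mem_univ _, one_mem _⟩, by simp⟩⟩
      omega
    · have hpos : 0 < O₁.card := Finset.card_pos.mpr ⟨b, Finset.mem_image.mpr ⟨1, Finset.mem_univ _, by simp⟩⟩
      have heven : 2 ∣ S.card := by
        have : S.card = ∑ _y ∈ S, 1 := by simp
        rw [← CharP.cast_eq_zero_iff (ZMod 2) 2, this]
        push_cast
        refine Finset.sum_involution (fun y _ => y⁻¹) (fun _ _ => (show (1 : ZMod 2) + 1 = 0 from rfl)) (fun y hy _ e => ?_)
          (fun y hy => ?_) (fun y _ => inv_inv y)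
        · have ho := (Finset.mem_filter.mp hy).2
          have h2 : y ^ 2 = 1 := by rw [pow_two]; nth_rewrite 1 [← e]; exact inv_mul_cancel y
          have := orderOf_dvd_of_pow_eq_one h2
          rw [ho] at this
          norm_num at this
        · exact Finset.mem_filter.mpr ⟨Finset.mem_univ _, by rw [orderOf_inv]; exact (Finset.mem_filter.mp hy).2⟩
      simp only [Finset.mem_insert, Finset.mem_singleton]
      omega
  -- the centraliser is the centre, of order two
  have hno4 : ∀ y ∈ Z, orderOf y ≠ 4 := by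
    intro y hy hy4
    obtain ⟨hyb, hyi⟩ := (hZiff y).mp hy
    have hprod : (R.ρ i - R.ρ y) * (R.ρ i + R.ρ y) = 0 := by
      simp only [mul_add, sub_mul, R.sq_of_order_four i hi.1, R.sq_of_order_four y hy4, ← map_mul, hyi.eq]
      abel
    by_cases hsum : R.ρ i + R.ρ y = 0
    · have : i = y⁻¹ := R.faithful (by rw [R.inv_of_order_four y hy4]; exact eq_neg_of_add_eq_zero_left hsum)
      exact hib (this ▸ hyb.inv_left.symm)
    · obtain ⟨v, hv⟩ : ∃ v, (R.ρ i + R.ρ y) v ≠ 0 := by
        by_contra hcon
        push Not at hcon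
        exact hsum (LinearMap.ext hcon)
      have h2 := LinearMap.congr_fun hprod v
      rw [Module.End.mul_apply, LinearMap.sub_apply, LinearMap.zero_apply, sub_eq_zero] at h2
      have h3 := R.fpf (y⁻¹ * i) _ (by rw [map_mul, Module.End.mul_apply, h2, R.inv_apply_cancel]) hv
      exact hib ((inv_mul_eq_one.mp h3) ▸ hyb.symm)
  have htwo : ∀ x ∈ Z, (∃ n : ℕ, x ^ 2 ^ n = 1) → x = 1 ∨ orderOf x = 2 := by
    rintro x hx ⟨n, hn⟩
    obtain ⟨k, -, hk⟩ := (Nat.dvd_prime_pow Nat.prime_two).mp (orderOf_dvd_of_pow_eq_one hn)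
    rcases (show k = 0 ∨ k = 1 ∨ 2 ≤ k by omega) with rfl | rfl | hk2
    · exact Or.inl (orderOf_eq_one_iff.mp (by simpa using hk))
    · exact Or.inr (by simpa using hk)
    · exfalso
      refine hno4 _ (Subgroup.pow_mem _ hx (2 ^ (k - 2))) ?_
      rw [orderOf_pow_of_dvd (by positivity) (hk ▸ pow_dvd_pow 2 (Nat.sub_le k 2)), hk,
        Nat.pow_div (Nat.sub_le k 2) (by norm_num), show k - (k - 2) = 2 by omega]
  haveI : IsZGroup Z := ⟨fun p hp P => by
    haveI := Fact.mk hp
    by_cases hp2 : p = 2
    · subst hp2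
      haveI : Fintype (P : Subgroup Z) := Fintype.ofFinite _
      have hcard : Nat.card (P : Subgroup Z) ≤ 2 := by
        have hall : ∀ x y : (P : Subgroup Z), x ≠ 1 → y ≠ 1 → x = y := by
          intro x y hx hy
          obtain ⟨n, hn⟩ := P.2 x
          obtain ⟨m, hm⟩ := P.2 y
          have hx' := (htwo _ (x : Z).2 ⟨n, congrArg (fun z : (P : Subgroup Z) => ((z : Z) : G)) hn⟩).resolve_left
            fun e => hx (Subtype.ext (Subtype.ext e))
          have hy' := (htwo _ (y : Z).2 ⟨m, congrArg (fun z : (P : Subgroup Z) => ((z : Z) : G)) hm⟩).resolve_left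
            fun e => hy (Subtype.ext (Subtype.ext e))
          exact Subtype.ext (Subtype.ext (huniq _ _ hx' hy'))
        by_contra hlt
        rw [Nat.card_eq_fintype_card, not_le, Fintype.two_lt_card_iff] at hlt
        obtain ⟨a, c, d, hac, had, hcd⟩ := hlt
        by_cases ha : a = 1
        · subst ha; exact hcd (hall c d (Ne.symm hac) (Ne.symm had))
        · by_cases hc : c = 1
          · subst hc; exact had (hall a d ha (Ne.symm hcd))
          · exact hac (hall a c ha hc)
      rcases Nat.le_one_iff_eq_zero_or_eq_one.mp (show Nat.card (P : Subgroup Z) - 1 ≤ 1 by omega) with e | e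
      · haveI : Subsingleton (P : Subgroup Z) := by
          rw [← Finite.card_le_one_iff_subsingleton]; omega
        infer_instance
      · exact isCyclic_of_prime_card (p := 2) (by omega)
    · haveI := H2.fcInt_isCyclic_sylow hFC hp2 (P.2.map Z.subtype)
      exact isCyclic_of_surjective ((P : Subgroup Z).equivMapOfInjective Z.subtype Z.subtype_injective).symm
        (MulEquiv.surjective _)⟩
  have hZc : ∀ x ∈ Z, ∀ g : G, g * x = x * g := by
    let D := (commutator Z).map Z.subtype
    haveI : D.Normal := inferInstance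
    haveI : IsCyclic D := by
      haveI := IsZGroup.isCyclic_commutator Z
      exact isCyclic_of_surjective ((commutator Z).equivMapOfInjective Z.subtype Z.subtype_injective)
        (MulEquiv.surjective _)
    have hD : ∀ (g : G), ∀ d ∈ D, g * d = d * g := by
      intro g d hd
      have := hom_trivial (mulAut_comm (H := D)) h (MulAut.conjNormal (H := D)) g
      exact mul_inv_eq_iff_eq_mul.mp (congrArg Subtype.val (MulEquiv.congr_fun this ⟨d, hd⟩))
    haveI hchar : (commutator Z).Characteristic := inferInstance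
    let φ : G →* MulAut (Abelianization Z) :=
      { toFun := fun g => (MulAut.conjNormal g : MulAut Z).abelianizationCongr
        map_one' := by ext x; refine QuotientGroup.induction_on x fun y => ?_; rw [map_one]; rfl
        map_mul' := fun a c => by ext x; refine QuotientGroup.induction_on x fun y => ?_; rw [map_mul]; rfl }
    have hφ : ∀ g : G, ∀ x : Z, g * x * g⁻¹ * (x : G)⁻¹ ∈ D := by
      intro g x
      haveI : IsCyclic (Abelianization Z) := inferInstance
      have h1 := MulEquiv.congr_fun (hom_trivial (mulAut_comm (H := Abelianization Z)) h φ g)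
        (Abelianization.of x)
      change Abelianization.of (MulAut.conjNormal g x) = Abelianization.of x at h1
      rw [← div_eq_one, ← map_div, ← MonoidHom.mem_ker, Abelianization.ker_of] at h1
      exact ⟨_, h1, by simp [div_eq_mul_inv, mul_assoc]⟩
    intro x hx g
    let f : G →* D :=
      { toFun := fun g => ⟨_, hφ g ⟨x, hx⟩⟩
        map_one' := by simp
        map_mul' := fun a c => by
          apply Subtype.ext
          show a * c * x * (a * c)⁻¹ * x⁻¹ = a * x * a⁻¹ * x⁻¹ * (c * x * c⁻¹ * x⁻¹)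
          have := hD a _ (hφ c ⟨x, hx⟩)
          simp only at this
          calc a * c * x * (a * c)⁻¹ * x⁻¹ = a * (c * x * c⁻¹ * x⁻¹) * x * a⁻¹ * x⁻¹ := by group
            _ = (c * x * c⁻¹ * x⁻¹) * (a * x * a⁻¹ * x⁻¹) := by rw [this]; group
            _ = a * x * a⁻¹ * x⁻¹ * (c * x * c⁻¹ * x⁻¹) := (hD _ _ (hφ c ⟨x, hx⟩)).symm }
    have h1 := congrArg Subtype.val (hom_trivial (fun a c : D => mul_comm' a c) h f g)
    exact mul_inv_eq_iff_eq_mul.mp (mul_inv_eq_one.mp (show g * x * g⁻¹ * x⁻¹ = 1 from h1))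
  have hZ2 : ∀ x ∈ Z, x = 1 ∨ orderOf x = 2 := by
    intro x hx
    refine htwo x hx ?_
    by_contra hno
    push Not at hno
    obtain ⟨q, hq, hq2, hqd⟩ : ∃ q, q.Prime ∧ q ≠ 2 ∧ q ∣ orderOf x := by
      by_contra hcon
      push Not at hcon
      obtain ⟨n, hn⟩ : ∃ n, orderOf x = 2 ^ n := ⟨_, Nat.eq_prime_pow_of_unique_prime_dvd
        (orderOf_pos x).ne' fun {d} hd hdd => by
          by_contra hne
          exact hcon d hd hne hdd⟩
      exact hno n (by rw [← hn, pow_orderOf_eq_one])
    haveI := Fact.mk hq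
    obtain ⟨Q⟩ : Nonempty (Sylow q G) := inferInstance
    haveI : IsCyclic Q := H2.fcInt_isCyclic_sylow hFC hq2 Q.2
    have hyq : orderOf (x ^ (orderOf x / q)) = q := orderOf_pow_orderOf_div (orderOf_pos x).ne' hqd
    have h1 := central_eq_one h Q inferInstance (hZc _ (Subgroup.pow_mem _ hx (orderOf x / q)))
      (by
        nth_rewrite 2 [← hyq]
        exact pow_orderOf_eq_one _)
    rw [h1, orderOf_one] at hyq
    exact hq.one_lt.ne hyq
  obtain ⟨z, hz⟩ := exists_prime_orderOf_dvd_card' 2 (two_dvd hFC h)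
  have hzZ : z ∈ Z := (hZiff z).mpr ⟨(hcentral z hz b).symm, (hcentral z hz i).symm⟩
  have hZeq : Z = Subgroup.zpowers z := by
    refine le_antisymm (fun x hx => ?_) (Subgroup.zpowers_le.mpr hzZ)
    rcases hZ2 x hx with rfl | hx2
    · exact one_mem _
    · rw [huniq x z hx2 hz]; exact Subgroup.mem_zpowers z
  have hGcard : Nat.card G = 2 * Nat.card (G ⧸ Z) := by
    rw [Subgroup.card_eq_card_quotient_mul_card_subgroup Z,
      show Nat.card Z = 2 by rw [hZeq, Nat.card_zpowers, hz], mul_comm]
  rcases hQ with h60 | h120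
  · -- order 120
    rw [h60] at hGcard
    refine Cfsg.Agent.S3378.result.1 G hGcard (not_solvable_of_perfect h) fun P => ?_
    have hP8 : Nat.card P = 8 := by
      rw [Sylow.card_eq_multiplicity, hGcard, show (2 * 60 : ℕ) = 2 ^ 3 * 15 by norm_num,
        Nat.factorization_mul (by norm_num) (by norm_num), Finsupp.add_apply,
        Nat.prime_two.factorization_pow, Finsupp.single_eq_same,
        Nat.factorization_eq_zero_of_not_dvd (by norm_num : ¬ 2 ∣ 15)]
      norm_num
    rcases H2.fcInt_isCyclic_or_quaternion hFC P.2 with hc | ⟨k, ⟨e⟩⟩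
    · exfalso
      obtain ⟨H, hH⟩ := H65.exists_index_two_of_cyclic_sylow (even_iff_two_dvd.mpr (two_dvd hFC h)) P hc
      haveI := Subgroup.normal_of_index_eq_two hH
      have hQ2 : Nat.card (G ⧸ H) = 2 := hH
      haveI : Nontrivial (G ⧸ H) := Finite.one_lt_card_iff_nontrivial.mp (by omega)
      haveI : IsCyclic (G ⧸ H) := isCyclic_of_prime_card hQ2
      exact not_solvable_of_perfect (perfect_map _ (QuotientGroup.mk'_surjective H) h) inferInstance
    · haveI : NeZero (2 ^ k) := ⟨by positivity⟩
      rw [Nat.card_congr e.toEquiv, Nat.card_eq_fintype_card, QuaternionGroup.card] at hP8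
      obtain rfl : k = 1 := by
        have : 2 ^ k = 2 ^ 1 := by omega
        exact Nat.pow_right_injective le_rfl this
      exact ⟨e⟩
  · -- order 240 is impossible
    exfalso
    obtain ⟨N, hN, hNb, hNt⟩ : ∃ N : Subgroup (G ⧸ Z), N.Normal ∧ N ≠ ⊥ ∧ N ≠ ⊤ := by
      by_contra hno
      push Not at hno
      haveI : IsSimpleGroup (G ⧸ Z) := ⟨fun N hN => or_iff_not_imp_left.mpr (hno N hN)⟩
      exact H59.not_simple_120 h120
    haveI := hN
    haveI : Nontrivial ((G ⧸ Z) ⧸ N) := by
      rw [← not_subsingleton_iff_nontrivial]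
      intro hs
      exact hNt (QuotientGroup.subsingleton_iff.mp hs)
    have hge : 60 ≤ N.index := by
      by_contra hlt
      exact not_solvable_of_perfect (perfect_map _ (QuotientGroup.mk'_surjective N) hQperf)
        (H59.solvable_of_card (G := (G ⧸ Z) ⧸ N) (not_le.mp hlt)
          ((Subgroup.card_quotient_dvd_card N).trans h120.dvd))
    have hN2 : Nat.card N = 2 := by
      have := N.card_mul_index
      have h2 : 2 ≤ Nat.card N := (Subgroup.one_lt_card_iff_ne_bot _).mpr hNb
      nlinarith
    set M := N.comap (QuotientGroup.mk' Z) with hM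
    have hMcard : Nat.card M = 4 := by
      have h1 := M.card_mul_index
      have h2 := N.card_mul_index
      rw [hM, Subgroup.index_comap_of_surjective _ (QuotientGroup.mk'_surjective Z), hGcard, h120] at h1
      rw [hN2, h120] at h2
      rw [← hM, show N.index = 60 by omega] at h1
      omega
    haveI : M.Normal := hN.comap _
    obtain ⟨y, hyM, hy⟩ : ∃ y ∈ M, orderOf y = 4 := by
      by_contra hno
      push Not at hno
      have hle : M ≤ Subgroup.zpowers z := by
        intro x hx
        have hd : orderOf x ∣ 4 := hMcard ▸ Subgroup.orderOf_dvd_natCard M hx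
        have hle := Nat.le_of_dvd (by norm_num) hd
        have hne := hno x hx
        have hpos := orderOf_pos x
        have : orderOf x = 1 ∨ orderOf x = 2 := by interval_cases orderOf x <;> omega
        rcases this with e | e
        · rw [orderOf_eq_one_iff.mp e]; exact one_mem _
        · rw [huniq x z e hz]; exact Subgroup.mem_zpowers z
      have := Subgroup.card_le_of_le hle
      rw [hMcard, Nat.card_zpowers, hz] at this
      omega
    haveI : IsCyclic M := isCyclic_of_orderOf_eq_card ⟨y, hyM⟩ (by rw [Subgroup.orderOf_mk, hy, hMcard])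
    have hyc : ∀ g : G, g * y = y * g := by
      intro g
      have := hom_trivial (mulAut_comm (H := M)) h (MulAut.conjNormal (H := M)) g
      exact mul_inv_eq_iff_eq_mul.mp (congrArg Subtype.val (MulEquiv.congr_fun this ⟨y, hyM⟩))
    exact hno4 y ((hZiff y).mpr ⟨(hyc b).symm, (hyc i).symm⟩) hy

end H58.Zass
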