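import Mathlib

/-!
Identities around a quaternion frame in a ring.
-/

set_option autoImplicit false

namespace H58.Zass

variable {E : Type*} [Ring E]

/-- The multiplication table of three quaternion units. -/
structure Quat (I J K : E) : Prop where
  ii : I * I = -1
  jj : J * J = -1
  kk : K * K = -1
  ij : I * J = K
  jk : J * K = I
  ki : K * I = J
  ji : J * I = -K
  kj : K * J = -I
  ik : I * K = -J

namespace Quat

variable {I J K : E}

theorem rot (h : Quat I J K) : Quat J K I :=
  ⟨h.jj, h.kk, h.ii, h.jk, h.ki, h.ij, h.kj, h.ik, h.ji⟩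

theorem ii' (h : Quat I J K) (z : E) : I * (I * z) = -z := by rw [← mul_assoc, h.ii, neg_one_mul]
theorem ij' (h : Quat I J K) (z : E) : I * (J * z) = K * z := by rw [← mul_assoc, h.ij]
theorem ji' (h : Quat I J K) (z : E) : J * (I * z) = -(K * z) := by rw [← mul_assoc, h.ji, neg_mul]

/-- Normalise words in the three units. -/
theorem comm_of_avg (h : Quat I J K) (p : E) (hp : p = I * p * I + J * p * J + K * p * K) :
    Commute (J * p + p * J) I := by
  have h1 : I * p * J = I * (I * p * I + J * p * J + K * p * K) * J := by rw [← hp]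
  simp only [mul_assoc, mul_add, add_mul, mul_neg, neg_mul, neg_neg, mul_one, one_mul, h.ii, h.jj,
    h.kk, h.ij, h.jk, h.ki, h.ji, h.kj, h.ik, h.ii', h.ij', h.ji', h.rot.ii', h.rot.ij', h.rot.ji',
    h.rot.rot.ii', h.rot.rot.ij', h.rot.rot.ji'] at h1
  show (J * p + p * J) * I = I * (J * p + p * J)
  simp only [mul_assoc, mul_add, add_mul, mul_neg, h.ji, h.ij']
  rw [h1]
  abel

theorem avg_of_anticomm (h : Quat I J K) (p : E) (h2 : ∀ x : E, x + x = 0 → x = 0)
    (hp : (I + J + K) * p + p * (I + J + K) = -2) : p = I * p * I + J * p * J + K * p * K := by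
  have hM : ∀ M : E, M = I * ((I + J + K) * p + p * (I + J + K)) →
      M - I * M * I - J * M * J - K * M * K = 0 := by
    rintro M rfl
    rw [hp, show (2 : E) = 1 + 1 by norm_num]
    simp only [mul_assoc, mul_add, add_mul, mul_neg, neg_mul, neg_neg, mul_one, one_mul, neg_add_rev,
      h.ii, h.jj, h.kk, h.ij, h.jk, h.ki, h.ji, h.kj, h.ik, h.ii', h.ij', h.ji', h.rot.ii', h.rot.ij',
      h.rot.ji', h.rot.rot.ii', h.rot.rot.ij', h.rot.rot.ji']
    abel
  have h1 := hM _ rfl
  simp only [mul_assoc, mul_add, add_mul, mul_sub, sub_mul, mul_neg, neg_mul, neg_neg, mul_one, one_mul,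
    h.ii, h.jj, h.kk, h.ij, h.jk, h.ki, h.ji, h.kj, h.ik, h.ii', h.ij', h.ji', h.rot.ii', h.rot.ij',
    h.rot.ji', h.rot.rot.ii', h.rot.rot.ij', h.rot.rot.ji'] at h1 ⊢
  refine sub_eq_zero.mp (h2 _ ?_)
  have h3 : -((p - (I * (p * I) + J * (p * J) + K * (p * K))) + (p - (I * (p * I) + J * (p * J) + K * (p * K)))) = 0 := by
    rw [← h1]; abel
  exact neg_eq_zero.mp h3

/-- The coefficients of an element with vanishing scalar part commute with the units. -/
theorem comm_all (h : Quat I J K) (p : E) (hp : p = I * p * I + J * p * J + K * p * K) :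
    Commute (I * p + p * I) I ∧ Commute (I * p + p * I) J ∧ Commute (I * p + p * I) K := by
  have hp' : p = K * p * K + I * p * I + J * p * J := by
    conv_lhs => rw [hp]
    abel
  have h1 : Commute (I * p + p * I) I := by
    show (I * p + p * I) * I = I * (I * p + p * I)
    simp only [mul_assoc, mul_add, add_mul, h.ii, h.ii', mul_neg, mul_one]
    abel
  have h3 : Commute (I * p + p * I) K := h.rot.rot.comm_of_avg p hp'
  refine ⟨h1, ?_, h3⟩
  have := h3.mul_right h1
  rwa [h.ki] at this

theorem expansion (h : Quat I J K) (p : E) (hp : p = I * p * I + J * p * J + K * p * K) :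
    I * (I * p + p * I) + J * (J * p + p * J) + K * (K * p + p * K) = -(p + p) := by
  simp only [mul_assoc, mul_add, h.ii', h.rot.ii', h.rot.rot.ii']
  have h1 : I * (p * I) + J * (p * J) + K * (p * K) = p := by simpa only [mul_assoc] using hp.symm
  calc -p + I * (p * I) + (-p + J * (p * J)) + (-p + K * (p * K))
      = -p + -p + -p + (I * (p * I) + J * (p * J) + K * (p * K)) := by abel
    _ = -(p + p) := by rw [h1]; abel

/-- A combination `J * c + K * d` with coefficients commuting with the units vanishes only trivially. -/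
theorem coeff_zero (h : Quat I J K) (h2 : ∀ x : E, x + x = 0 → x = 0) (c d : E)
    (hc : Commute c J) (hd : Commute d J) (he : J * c + K * d = 0) : d = 0 := by
  have h1 : J * (J * c + K * d) - (J * c + K * d) * J = 0 := by rw [he]; simp
  simp only [mul_add, add_mul, mul_assoc, hc.eq, hd.eq, h.rot.ii', h.rot.ij', h.rot.ji'] at h1
  have h3 : I * d + I * d = 0 := by rw [← h1]; abel
  have h4 := congrArg (I * ·) (h2 _ h3)
  simpa [h.ii'] using h4

end Quat

/-- An anticommutator with a square root of `-1` commutes with both. -/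
theorem commute_anticomm (x p : E) (hp : p * p = -1) : Commute (x * p + p * x) p := by
  show (x * p + p * x) * p = p * (x * p + p * x)
  simp only [mul_add, add_mul, mul_assoc, hp, ← mul_assoc p p x]
  simp only [mul_neg, mul_one, neg_mul, one_mul]
  abel

/-- The coefficients of a square root of `-1` with vanishing scalar part. -/
theorem Quat.coefficients {I J K : E} (h : Quat I J K) (h2 : ∀ x : E, x + x = 0 → x = 0) (p : E)
    (hpp : p * p = -1) (hp : (I + J + K) * p + p * (I + J + K) = -2) :
    (I * p + p * I) + (J * p + p * J) + (K * p + p * K) = -2 ∧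
    Commute (I * p + p * I) (J * p + p * J) ∧
    (I * p + p * I) * (I * p + p * I) + (J * p + p * J) * (J * p + p * J) +
      (K * p + p * K) * (K * p + p * K) = 4 ∧
    (Commute (J * p + p * J) I ∧ Commute (J * p + p * J) J ∧ Commute (J * p + p * J) K) ∧
    I * (I * p + p * I) + J * (J * p + p * J) + K * (K * p + p * K) = -(p + p) := by
  have havg := h.avg_of_anticomm p h2 hp
  have havg' : p = J * p * J + K * p * K + I * p * I := by
    conv_lhs => rw [havg]
    abel
  have havg'' : p = K * p * K + I * p * I + J * p * J := by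
    conv_lhs => rw [havg]
    abel
  obtain ⟨aI, aJ, aK⟩ := h.comm_all p havg
  obtain ⟨bJ, bK, bI⟩ := h.rot.comm_all p havg'
  obtain ⟨cK, cI, cJ⟩ := h.rot.rot.comm_all p havg''
  have hexp := h.expansion p havg
  set a := I * p + p * I with ha
  set b := J * p + p * J with hb
  set c := K * p + p * K with hc
  have cap : Commute a p := commute_anticomm I p hpp
  have cbp : Commute b p := commute_anticomm J p hpp
  clear_value a b c
  have hab : ∀ (x y : E), Commute x p → Commute x y → Commute x (-(p + p) - y) :=
    fun x y hx hy => ((hx.add_right hx).neg_right).sub_right hy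
  have cab : Commute a b ∧ Commute a c := by
    have h1 : Commute a (J * b + K * c) := by
      have := hab a (I * a) cap (aI.mul_right (Commute.refl a))
      rwa [← hexp, show I * a + J * b + K * c - I * a = J * b + K * c by abel] at this
    have h4 : J * (a * b - b * a) + K * (a * c - c * a) = 0 := by
      have := h1.eq
      rw [mul_add, add_mul, ← mul_assoc, ← mul_assoc, aJ.eq, aK.eq] at this
      simp only [mul_sub, ← mul_assoc] at this ⊢
      rw [← sub_eq_zero] at this
      rw [← this]; abel
    have hd : a * c - c * a = 0 := h.coeff_zero h2 _ _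
      ((aJ.mul_left bJ).sub_left (bJ.mul_left aJ)) ((aJ.mul_left cJ).sub_left (cJ.mul_left aJ)) h4
    rw [hd, mul_zero, add_zero] at h4
    have he : b * a - a * b = 0 := by
      have := congrArg (J * ·) h4
      simpa [h.rot.ii'] using this
    exact ⟨(sub_eq_zero.mp he).symm, sub_eq_zero.mp hd⟩
  have cbc : Commute b c := by
    have h1 : Commute b (K * c + I * a) := by
      have := hab b (J * b) cbp (bJ.mul_right (Commute.refl b))
      rwa [← hexp, show I * a + J * b + K * c - J * b = K * c + I * a by abel] at this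
    have := h1.eq
    rw [mul_add, add_mul, ← mul_assoc b I, bI.eq, mul_assoc I b a, ← cab.1.eq, mul_assoc I a b,
      add_left_inj, ← mul_assoc b K, bK.eq, mul_assoc, mul_assoc] at this
    have h4 := congrArg (K * ·) this
    simpa [h.rot.rot.ii', Commute, SemiconjBy] using h4
  refine ⟨?_, cab.1, ?_, ⟨bI, bJ, bK⟩, hexp⟩
  · rw [← hp, ha, hb, hc]
    simp only [add_mul, mul_add]
    abel
  · have h1 : (I * a + J * b + K * c) * (I * a + J * b + K * c) = -4 := by
      rw [hexp, show (4 : E) = 1 + 1 + 1 + 1 by norm_num]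
      simp only [neg_mul, mul_neg, neg_neg, add_mul, mul_add, hpp, neg_add_rev]
      abel
    have e : ∀ (X Y x y : E), Commute x Y → X * x * (Y * y) = X * Y * (x * y) := by
      intro X Y x y hxY
      rw [mul_assoc, ← mul_assoc x Y y, hxY.eq, mul_assoc Y x y, ← mul_assoc]
    simp only [add_mul, mul_add, e I I a a aI, e I J a b aJ, e I K a c aK, e J I b a bI, e J J b b bJ,
      e J K b c bK, e K I c a cI, e K J c b cJ, e K K c c cK, h.ii, h.jj, h.kk, h.ij, h.jk, h.ki,
      h.ji, h.kj, h.ik, neg_mul, one_mul, cab.1.eq, cab.2.eq, cbc.eq] at h1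
    rw [← neg_inj, ← h1]
    abel

end H58.Zass
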