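import Mathlib

/-!
Three values of `2 cos` at roots of unity of order 5, 6, 8, 10 or 12 with prescribed power sums.
-/

set_option autoImplicit false

namespace H58.Zass

/-- The possible values. -/
def IsTraceValue (t : ℝ) : Prop :=
  t = 1 ∨ t * t + t = 1 ∨ t * t = 2 ∨ t * t = t + 1 ∨ t * t = 3

/-- Bounds, times a thousand, for a value and its square. -/
def traceBoxes : List (ℤ × ℤ × ℤ × ℤ) :=
  [(1000, 1000, 1000, 1000), (1414, 1415, 2000, 2000), (-1415, -1414, 2000, 2000),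
   (1732, 1733, 3000, 3000), (-1733, -1732, 3000, 3000), (618, 619, 381, 383),
   (-1619, -1618, 2617, 2622), (1618, 1619, 2617, 2622), (-619, -618, 381, 383)]

theorem exists_box {t : ℝ} (h : IsTraceValue t) : ∃ w ∈ traceBoxes,
    (w.1 : ℝ) ≤ 1000 * t ∧ 1000 * t ≤ (w.2.1 : ℝ) ∧
      (w.2.2.1 : ℝ) ≤ 1000 * (t * t) ∧ 1000 * (t * t) ≤ (w.2.2.2 : ℝ) := by
  rcases h with h | h | h | h | h <;> rcases le_total 0 t with hs | hs
  · exact ⟨_, List.Mem.head _, by subst h; norm_num⟩
  · subst h; norm_num at hs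
  · refine ⟨(618, 619, 381, 383), by simp [traceBoxes], ?_⟩
    push_cast
    have h1 : 0.618 ≤ t := by by_contra hc; push Not at hc; nlinarith
    have h2 : t ≤ 0.619 := by by_contra hc; push Not at hc; nlinarith
    norm_num at h1 h2
    refine ⟨by linarith, by linarith, by nlinarith, by nlinarith⟩
  · refine ⟨(-1619, -1618, 2617, 2622), by simp [traceBoxes], ?_⟩
    push_cast
    have h1 : -1.619 ≤ t := by by_contra hc; push Not at hc; nlinarith
    have h2 : t ≤ -1.618 := by by_contra hc; push Not at hc; nlinarith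
    norm_num at h1 h2
    refine ⟨by linarith, by linarith, by nlinarith, by nlinarith⟩
  · refine ⟨(1414, 1415, 2000, 2000), by simp [traceBoxes], ?_⟩
    push_cast
    refine ⟨by nlinarith, by nlinarith, by linarith, by linarith⟩
  · refine ⟨(-1415, -1414, 2000, 2000), by simp [traceBoxes], ?_⟩
    push_cast
    refine ⟨by nlinarith, by nlinarith, by linarith, by linarith⟩
  · refine ⟨(1618, 1619, 2617, 2622), by simp [traceBoxes], ?_⟩
    push_cast
    have h1 : 1.618 ≤ t := by by_contra hc; push Not at hc; nlinarith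
    have h2 : t ≤ 1.619 := by by_contra hc; push Not at hc; nlinarith
    norm_num at h1 h2
    refine ⟨by linarith, by linarith, by nlinarith, by nlinarith⟩
  · refine ⟨(-619, -618, 381, 383), by simp [traceBoxes], ?_⟩
    push_cast
    have h1 : -0.619 ≤ t := by by_contra hc; push Not at hc; nlinarith
    have h2 : t ≤ -0.618 := by by_contra hc; push Not at hc; nlinarith
    norm_num at h1 h2
    refine ⟨by linarith, by linarith, by nlinarith, by nlinarith⟩
  · refine ⟨(1732, 1733, 3000, 3000), by simp [traceBoxes], ?_⟩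
    push_cast
    refine ⟨by nlinarith, by nlinarith, by linarith, by linarith⟩
  · refine ⟨(-1733, -1732, 3000, 3000), by simp [traceBoxes], ?_⟩
    push_cast
    refine ⟨by nlinarith, by nlinarith, by linarith, by linarith⟩

theorem boxes_incompatible : ∀ a ∈ traceBoxes, ∀ b ∈ traceBoxes, ∀ c ∈ traceBoxes,
    ¬ (a.1 + b.1 + c.1 ≤ 1000 ∧ 1000 ≤ a.2.1 + b.2.1 + c.2.1 ∧
      a.2.2.1 + b.2.2.1 + c.2.2.1 ≤ 3000 ∧ 3000 ≤ a.2.2.2 + b.2.2.2 + c.2.2.2) := by decide

theorem no_triple {a b c : ℝ} (ha : IsTraceValue a) (hb : IsTraceValue b) (hc : IsTraceValue c)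
    (h1 : a + b + c = 1) (h2 : a * a + b * b + c * c = 3) : False := by
  obtain ⟨u, hu, hu1, hu2, hu3, hu4⟩ := exists_box ha
  obtain ⟨v, hv, hv1, hv2, hv3, hv4⟩ := exists_box hb
  obtain ⟨w, hw, hw1, hw2, hw3, hw4⟩ := exists_box hc
  refine boxes_incompatible u hu v hv w hw ⟨?_, ?_, ?_, ?_⟩
  · have : (((u.1 + v.1 + w.1 : ℤ)) : ℝ) ≤ ((1000 : ℤ) : ℝ) := by push_cast; linarith
    exact_mod_cast this
  · have : (((1000 : ℤ)) : ℝ) ≤ ((u.2.1 + v.2.1 + w.2.1 : ℤ) : ℝ) := by push_cast; linarith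
    exact_mod_cast this
  · have : (((u.2.2.1 + v.2.2.1 + w.2.2.1 : ℤ)) : ℝ) ≤ ((3000 : ℤ) : ℝ) := by push_cast; linarith
    exact_mod_cast this
  · have : (((3000 : ℤ)) : ℝ) ≤ ((u.2.2.2 + v.2.2.2 + w.2.2.2 : ℤ) : ℝ) := by push_cast; linarith
    exact_mod_cast this

end H58.Zass
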