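import Cfsg.Agent.H58.Zass.Orders
import Cfsg.Agent.H58.Zass.Quaternion
import Cfsg.Agent.H58.Zass.Triples

/-!
Tetrahedral frames at an element of order three.
-/

set_option autoImplicit false

namespace H58.Zass

open scoped InnerProductSpace ComplexConjugate

variable {G : Type*} [Group G] [Finite G]

/-- `i` generates a binary tetrahedral group with `b`. -/
def IsFrame (b i : G) : Prop := orderOf i = 4 ∧ orderOf (b⁻¹ * i) = 3

omit [Finite G] in
theorem orderOf_conj' (g x : G) : orderOf (g * x * g⁻¹) = orderOf x := by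
  rw [← MulAut.conj_apply, MulEquiv.orderOf_eq]

omit [Finite G] in
theorem IsFrame.conj {b i : G} (h : IsFrame b i) : IsFrame b (b * i * b⁻¹) := by
  refine ⟨(orderOf_conj' b i).trans h.1, ?_⟩
  rw [show b⁻¹ * (b * i * b⁻¹) = b * (b⁻¹ * i) * b⁻¹ by group, orderOf_conj', h.2]

omit [Finite G] in
theorem conj_three {b i : G} (hb : orderOf b = 3) :
    b * (b * i * b⁻¹) * b⁻¹ = b⁻¹ * i * b ∧ b * (b⁻¹ * i * b) * b⁻¹ = i ∧
      b⁻¹ * (b * i * b⁻¹) * b = i := by
  have h3 : b * b * b = 1 := by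
    rw [← pow_two, ← pow_succ, show 2 + 1 = orderOf b by rw [hb], pow_orderOf_eq_one]
  have h2 : b * b = b⁻¹ := eq_inv_of_mul_eq_one_left h3
  refine ⟨?_, by group, by group⟩
  calc b * (b * i * b⁻¹) * b⁻¹ = b * b * i * (b * b)⁻¹ := by group
    _ = b⁻¹ * i * b := by rw [h2, inv_inv]

namespace Rep

variable {U : Type*} [NormedAddCommGroup U] [InnerProductSpace ℂ U] (R : Rep G U)

theorem faithful {g h : G} (e : R.ρ g = R.ρ h) : g = h := by
  obtain ⟨v, hv⟩ := R.nonzero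
  have : h⁻¹ * g = 1 := R.fpf _ v (by rw [map_mul, e, Module.End.mul_apply, R.inv_apply_cancel]) hv
  exact (inv_mul_eq_one.mp this).symm

theorem two_cancel (x : Module.End ℂ U) (h : x + x = 0) : x = 0 := by
  rw [← two_smul ℂ x] at h
  exact (smul_eq_zero.mp h).resolve_left two_ne_zero

theorem sub_two_cancel (x y : Module.End ℂ U) (h : x + x = y + y) : x = y := by
  refine sub_eq_zero.mp (two_cancel _ ?_)
  rw [sub_add_sub_comm, h, sub_self]

variable {b i : G} (hb : orderOf b = 3) (hi : IsFrame b i)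

include hb hi

theorem frame_rel : R.ρ b * R.ρ i + R.ρ i * R.ρ b = 1 - R.ρ i := by
  have h := R.inv_of_order_three _ hi.2
  rw [mul_inv_rev, inv_inv, map_mul, map_mul, R.inv_of_order_four i hi.1, R.inv_of_order_three b hb,
    sub_mul, neg_one_mul, neg_mul] at h
  rw [eq_sub_iff_add_eq, ← sub_eq_zero]
  rw [← sub_eq_zero] at h
  rw [← neg_eq_zero, ← h]
  abel

theorem axis_frame : R.axis b * R.ρ i + R.ρ i * R.axis b = 2 := by
  have h := R.frame_rel hb hi
  calc R.axis b * R.ρ i + R.ρ i * R.axis b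
      = 2 * (R.ρ b * R.ρ i + R.ρ i * R.ρ b) + (R.ρ i + R.ρ i) := by rw [axis]; noncomm_ring
    _ = 2 := by rw [h, ← two_mul, mul_sub, mul_one, sub_add_cancel]

theorem frame_k : R.ρ (b⁻¹ * i * b) = -(R.ρ i * R.ρ b) - R.ρ b - R.ρ i := by
  have h := R.frame_rel hb hi
  rw [map_mul, map_mul, R.inv_of_order_three b hb, sub_mul, neg_one_mul, sub_mul, neg_mul]
  have h1 : R.ρ b * R.ρ i = 1 - R.ρ i - R.ρ i * R.ρ b := by rw [← h]; abel
  rw [h1, sub_mul, sub_mul, one_mul, mul_assoc, R.sq_of_order_three b hb, mul_sub, mul_neg, mul_one]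
  abel

theorem frame_j : R.ρ (b * i * b⁻¹) = -(R.ρ b * R.ρ i) - R.ρ b - R.ρ i := by
  have h := R.frame_rel hb hi
  rw [map_mul, map_mul, R.inv_of_order_three b hb, mul_sub, mul_neg, mul_one]
  have h1 : R.ρ i * R.ρ b = 1 - R.ρ i - R.ρ b * R.ρ i := by rw [← h]; abel
  rw [mul_assoc (R.ρ b), h1, mul_sub, mul_sub, mul_one, ← mul_assoc, R.sq_of_order_three b hb,
    sub_mul, neg_one_mul]
  abel

theorem frame_sum : R.ρ i + R.ρ (b * i * b⁻¹) + R.ρ (b⁻¹ * i * b) = -R.axis b := by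
  have h1 : R.ρ b * R.ρ i = 1 - R.ρ i - R.ρ i * R.ρ b := by rw [← R.frame_rel hb hi]; abel
  rw [R.frame_j hb hi, R.frame_k hb hi, axis, two_mul, h1]
  abel

theorem frame_ij : R.ρ i * R.ρ (b * i * b⁻¹) = R.ρ (b⁻¹ * i * b) := by
  have h1 : R.ρ b * R.ρ i = 1 - R.ρ i - R.ρ i * R.ρ b := by rw [← R.frame_rel hb hi]; abel
  have hI := R.sq_of_order_four i hi.1
  rw [R.frame_j hb hi, R.frame_k hb hi, h1]
  simp only [mul_sub, mul_neg, mul_one, ← mul_assoc, hI, neg_mul, one_mul, neg_sub, sub_neg_eq_add]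
  abel

end Rep

namespace Rep

variable {U : Type*} [NormedAddCommGroup U] [InnerProductSpace ℂ U] (R : Rep G U)

theorem quat {b i : G} (hb : orderOf b = 3) (hi : IsFrame b i) :
    Quat (R.ρ i) (R.ρ (b * i * b⁻¹)) (R.ρ (b⁻¹ * i * b)) := by
  obtain ⟨e1, e2, e3⟩ := conj_three (i := i) hb
  have hj : IsFrame b (b * i * b⁻¹) := hi.conj
  have hk : IsFrame b (b⁻¹ * i * b) := e1 ▸ hj.conj
  have hij := R.frame_ij hb hi
  have hjk : R.ρ (b * i * b⁻¹) * R.ρ (b⁻¹ * i * b) = R.ρ i := by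
    have := R.frame_ij hb hj
    rwa [e1, e3] at this
  have hki : R.ρ (b⁻¹ * i * b) * R.ρ i = R.ρ (b * i * b⁻¹) := by
    have h := R.frame_ij hb hk
    rw [e2] at h
    rw [h]
    congr 1
    exact (show b⁻¹ * (b⁻¹ * i * b) * b = b * i * b⁻¹ by
      rw [← (conj_three (i := b⁻¹ * i * b) hb).1, e2])
  have hI := R.sq_of_order_four _ hi.1
  have hJ := R.sq_of_order_four _ hj.1
  have hK := R.sq_of_order_four _ hk.1
  refine ⟨hI, hJ, hK, hij, hjk, hki, ?_, ?_, ?_⟩
  · rw [← hki, mul_assoc, hI, mul_neg, mul_one]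
  · rw [← hij, mul_assoc, hJ, mul_neg, mul_one]
  · rw [← hjk, mul_assoc, hK, mul_neg, mul_one]

/-- The coefficients of a second frame. -/
theorem coeffs {b i p : G} (hb : orderOf b = 3) (hi : IsFrame b i) (hp : IsFrame b p) :
    (R.ρ i + R.ρ (b * i * b⁻¹) + R.ρ (b⁻¹ * i * b)) * R.ρ p +
      R.ρ p * (R.ρ i + R.ρ (b * i * b⁻¹) + R.ρ (b⁻¹ * i * b)) = -2 := by
  rw [R.frame_sum hb hi, neg_mul, mul_neg, ← R.axis_frame hb hp]
  abel

theorem tc_cross {b x p : G} (hb : orderOf b = 3) (hx : IsFrame b x) (hp : IsFrame b p) :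
    R.tc (x * (p * b⁻¹ * p⁻¹)) = R.ρ x * R.ρ p + R.ρ p * R.ρ x + 1 := by
  have hy : orderOf (p * b⁻¹ * p⁻¹) = 3 := by rw [orderOf_conj', orderOf_inv, hb]
  have h := R.axis_anticomm_four x _ hx.1 hy
  have hu : R.axis (p * b⁻¹ * p⁻¹) = 2 * R.ρ p + R.axis b := by
    have hP := R.sq_of_order_four p hp.1
    have h1 := R.axis_frame hb hp
    calc R.axis (p * b⁻¹ * p⁻¹) = R.ρ p * (R.axis b * R.ρ p) := by
          rw [axis, axis, map_mul, map_mul, R.inv_of_order_three b hb, R.inv_of_order_four p hp.1]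
          simp only [two_mul, mul_add, add_mul, sub_mul, mul_sub, mul_neg, neg_mul, mul_one, one_mul,
            ← mul_assoc, hP, show (2 : Module.End ℂ U) = 1 + 1 from one_add_one_eq_two.symm]
          abel
      _ = R.ρ p * (2 - R.ρ p * R.axis b) := by rw [← h1]; simp
      _ = 2 * R.ρ p + R.axis b := by
          rw [mul_sub, ← mul_assoc, hP, ← one_add_one_eq_two, mul_add (R.ρ p), add_mul, mul_one, one_mul]
          simp only [neg_mul, one_mul, sub_neg_eq_add]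
  refine sub_two_cancel _ _ ?_
  rw [← two_mul, ← h, hu]
  have h2 := R.axis_frame hb hx
  calc R.ρ x * (2 * R.ρ p + R.axis b) + (2 * R.ρ p + R.axis b) * R.ρ x
      = R.ρ x * R.ρ p + R.ρ p * R.ρ x + (R.ρ x * R.ρ p + R.ρ p * R.ρ x) +
        (R.axis b * R.ρ x + R.ρ x * R.axis b) := by noncomm_ring
    _ = R.ρ x * R.ρ p + R.ρ p * R.ρ x + 1 + (R.ρ x * R.ρ p + R.ρ p * R.ρ x + 1) := by
        rw [h2, ← one_add_one_eq_two]; abel

omit [Finite G] in
theorem tc_mul_tc (g : G) : R.tc g * R.tc g = R.tc (g * g) + 2 := by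
  rw [tc, tc, mul_inv_rev, map_mul, map_mul]
  have h1 : R.ρ g * R.ρ g⁻¹ = 1 := by rw [← map_mul, mul_inv_cancel, map_one]
  have h2 : R.ρ g⁻¹ * R.ρ g = 1 := by rw [← map_mul, inv_mul_cancel, map_one]
  simp only [add_mul, mul_add, h1, h2, ← one_add_one_eq_two]
  abel

theorem tc_order_five (g : G) (hg : orderOf g = 5) : R.tc g * R.tc g + R.tc g = 1 := by
  have h4 : g⁻¹ = g ^ 4 := by
    rw [inv_eq_iff_mul_eq_one, ← pow_succ', show 4 + 1 = orderOf g by rw [hg], pow_orderOf_eq_one]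
  have h3 : (g * g)⁻¹ = g ^ 3 := by
    rw [inv_eq_iff_mul_eq_one, ← pow_two, ← pow_add, show 2 + 3 = orderOf g by rw [hg], pow_orderOf_eq_one]
  have hsum := R.mul_sub_eq_zero g (fun e => by rw [e, orderOf_one] at hg; omega)
    (R.ρ g ^ 4 + R.ρ g ^ 3 + R.ρ g ^ 2 + R.ρ g + 1) (by
      have h5 : R.ρ g * R.ρ g ^ 4 = 1 := by
        rw [← pow_succ', show 4 + 1 = orderOf g by rw [hg], ← map_pow, pow_orderOf_eq_one, map_one]
      simp only [sub_mul, mul_add, one_mul, mul_one, h5, ← pow_succ']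
      rw [pow_two]
      abel)
  rw [R.tc_mul_tc, tc, tc, h4, h3, map_mul, map_pow, map_pow, ← pow_two,
    show (2 : Module.End ℂ U) = 1 + 1 from one_add_one_eq_two.symm, ← sub_eq_zero, ← hsum]
  abel

theorem tc_trace_value (g : G) (hg : orderOf g ∈ ({5, 6, 8, 10, 12} : Finset ℕ)) (t : ℝ) (v : U)
    (hv : v ≠ 0) (h : R.tc g v = (t : ℂ) • v) : IsTraceValue t := by
  have h2 : (R.tc g * R.tc g) v = ((t * t : ℝ) : ℂ) • v := by
    rw [Module.End.mul_apply, h, map_smul, h, smul_smul, Complex.ofReal_mul]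
  have key : ∀ (c d : ℝ), R.tc g * R.tc g = (c : ℂ) • R.tc g + (d : ℂ) • 1 → t * t = c * t + d := by
    intro c d e
    rw [e, LinearMap.add_apply, LinearMap.smul_apply, h, LinearMap.smul_apply, Module.End.one_apply,
      smul_smul, ← add_smul] at h2
    have h3 : ((c : ℂ) * t + d) = ((t * t : ℝ) : ℂ) := smul_left_injective ℂ hv h2
    exact Complex.ofReal_injective (by push_cast at h3 ⊢; exact h3.symm)
  simp only [Finset.mem_insert, Finset.mem_singleton] at hg
  rcases hg with hg | hg | hg | hg | hg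
  · refine Or.inr (Or.inl ?_)
    have := key (-1) 1 (by
      push_cast
      rw [neg_smul, one_smul, one_smul, ← R.tc_order_five g hg]; abel)
    linarith
  · refine Or.inl ?_
    have h1 : (1 : ℂ) • v = (t : ℂ) • v := by rw [← h, R.tc_of_order_six g hg]; simp
    exact Complex.ofReal_injective (by simpa using (smul_left_injective ℂ hv h1).symm)
  · refine Or.inr (Or.inr (Or.inl ?_))
    have := key 0 2 (by
      rw [R.tc_mul_tc, R.tc_of_order_four (g * g) (by
        rw [← pow_two, orderOf_pow_of_dvd (by norm_num) (by rw [hg]; norm_num), hg])]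
      push_cast
      rw [zero_smul, two_smul, one_add_one_eq_two])
    linarith
  · refine Or.inr (Or.inr (Or.inr (Or.inl ?_)))
    have h6 : orderOf (g ^ 6) = 5 := by rw [orderOf_pow, hg]; rfl
    have hz : R.ρ (g ^ 5) = -1 := R.invol_eq _ (by
      rw [orderOf_pow_of_dvd (by norm_num) (by rw [hg]; norm_num), hg])
    have hzi : R.ρ (g ^ 5)⁻¹ = -1 := R.invol_eq _ (by
      rw [orderOf_inv, orderOf_pow_of_dvd (by norm_num) (by rw [hg]; norm_num), hg])
    have hneg : R.tc (g ^ 6) = -R.tc g := by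
      rw [tc, tc, pow_succ (a := g) 5, mul_inv_rev, map_mul, map_mul, hz, hzi, neg_one_mul, mul_neg,
        mul_one]
      abel
    have := R.tc_order_five _ h6
    rw [hneg, neg_mul_neg] at this
    have h3 := key 1 1 (by push_cast; rw [one_smul, one_smul, ← this]; abel)
    linarith
  · refine Or.inr (Or.inr (Or.inr (Or.inr ?_)))
    have := key 0 3 (by
      rw [R.tc_mul_tc, R.tc_of_order_six (g * g) (by
        rw [← pow_two, orderOf_pow_of_dvd (by norm_num) (by rw [hg]; norm_num), hg])]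
      push_cast
      rw [zero_smul, ← two_add_one_eq_three, add_smul, one_smul, two_smul, ← one_add_one_eq_two]
      abel)
    linarith

omit [Finite G] in
/-- Skew operators with square zero vanish. -/
theorem skew_sq_zero (D : Module.End ℂ U) (hD : ∀ x y, ⟪D x, y⟫_ℂ = -⟪x, D y⟫_ℂ) (h : D * D = 0) :
    D = 0 := by
  refine LinearMap.ext fun v => ?_
  have h1 : ⟪D v, D v⟫_ℂ = 0 := by
    rw [hD, ← Module.End.mul_apply, h, LinearMap.zero_apply, inner_zero_right, neg_zero]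
  exact inner_self_eq_zero.mp h1

theorem eq_of_tc_three (R : Rep G U) {b x p : G} (hb : orderOf b = 3) (hx : IsFrame b x) (hp : IsFrame b p)
    (h3 : orderOf (x * (p * b⁻¹ * p⁻¹)) = 3) : x = p := by
  have h := R.tc_cross hb hx hp
  rw [R.tc_of_order_three _ h3] at h
  refine R.faithful (sub_eq_zero.mp (skew_sq_zero (R.ρ x - R.ρ p) (fun u w => ?_) ?_))
  · simp only [LinearMap.sub_apply, inner_sub_left, inner_sub_right, R.four_skew x hx.1, R.four_skew p hp.1]
    ring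
  · simp only [sub_mul, mul_sub, R.sq_of_order_four x hx.1, R.sq_of_order_four p hp.1]
    calc -1 - R.ρ p * R.ρ x - (R.ρ x * R.ρ p - -1)
        = -1 - (R.ρ x * R.ρ p + R.ρ p * R.ρ x + 1) := by abel
      _ = 0 := by rw [← h, sub_self]

theorem anticomm_of_tc_four {b x p : G} (hb : orderOf b = 3) (hx : IsFrame b x) (hp : IsFrame b p)
    (h4 : orderOf (x * (p * b⁻¹ * p⁻¹)) = 4) : R.ρ x * R.ρ p + R.ρ p * R.ρ x = -1 := by
  have h := R.tc_cross hb hx hp
  rw [R.tc_of_order_four _ h4] at h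
  exact eq_neg_of_add_eq_zero_left h.symm

variable [FiniteDimensional ℂ U]

/-- A common eigenvector of the three traces between two frames. -/
theorem common_eigen {b i p : G} (hb : orderOf b = 3) (hi : IsFrame b i) (hp : IsFrame b p) :
    ∃ (v : U) (a c d : ℝ), v ≠ 0 ∧
      R.tc (i * (p * b⁻¹ * p⁻¹)) v = (a : ℂ) • v ∧
      R.tc (b * i * b⁻¹ * (p * b⁻¹ * p⁻¹)) v = (c : ℂ) • v ∧
      R.tc (b⁻¹ * i * b * (p * b⁻¹ * p⁻¹)) v = (d : ℂ) • v ∧
      a + c + d = 1 ∧ a * a + c * c + d * d = 3 := by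
  obtain ⟨e1, -, -⟩ := conj_three (i := i) hb
  have hj : IsFrame b (b * i * b⁻¹) := hi.conj
  have hk : IsFrame b (b⁻¹ * i * b) := e1 ▸ hj.conj
  obtain ⟨hsum, hcomm, hsq, -⟩ := (R.quat hb hi).coefficients two_cancel (R.ρ p)
    (R.sq_of_order_four p hp.1) (R.coeffs hb hi hp)
  set A := R.tc (i * (p * b⁻¹ * p⁻¹)) with hA
  set B := R.tc (b * i * b⁻¹ * (p * b⁻¹ * p⁻¹)) with hB
  set C := R.tc (b⁻¹ * i * b * (p * b⁻¹ * p⁻¹)) with hC
  rw [R.tc_cross hb hi hp] at hA
  rw [R.tc_cross hb hj hp] at hB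
  rw [R.tc_cross hb hk hp] at hC
  have hs : A + B + C = 1 := by
    rw [hA, hB, hC]
    calc _ = (R.ρ i * R.ρ p + R.ρ p * R.ρ i) + (R.ρ (b * i * b⁻¹) * R.ρ p + R.ρ p * R.ρ (b * i * b⁻¹)) +
          (R.ρ (b⁻¹ * i * b) * R.ρ p + R.ρ p * R.ρ (b⁻¹ * i * b)) + 3 := by
            rw [show (3 : Module.End ℂ U) = 1 + 1 + 1 by norm_num]; abel
      _ = 1 := by rw [hsum]; norm_num
  have hAB : Commute A B := by
    rw [hA, hB]
    exact ((hcomm.add_right (Commute.one_right _)).add_left (Commute.one_left _))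
  have hq : A * A + B * B + C * C = 3 := by
    rw [hA, hB, hC]
    set X := R.ρ i * R.ρ p + R.ρ p * R.ρ i
    set Y := R.ρ (b * i * b⁻¹) * R.ρ p + R.ρ p * R.ρ (b * i * b⁻¹)
    set Z := R.ρ (b⁻¹ * i * b) * R.ρ p + R.ρ p * R.ρ (b⁻¹ * i * b)
    calc (X + 1) * (X + 1) + (Y + 1) * (Y + 1) + (Z + 1) * (Z + 1)
        = (X * X + Y * Y + Z * Z) + 2 * (X + Y + Z) + 3 := by
          rw [show (3 : Module.End ℂ U) = 1 + 1 + 1 by norm_num]; noncomm_ring
      _ = 3 := by rw [hsq, hsum]; norm_num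
  haveI : Nontrivial U := by
    obtain ⟨v, hv⟩ := R.nonzero
    exact ⟨v, 0, hv⟩
  obtain ⟨α, hα⟩ := Module.End.exists_eigenvalue A
  have hmap : ∀ w ∈ A.eigenspace α, B w ∈ A.eigenspace α := by
    intro w hw
    rw [Module.End.mem_eigenspace_iff] at hw ⊢
    rw [← Module.End.mul_apply, hAB.eq, Module.End.mul_apply, hw, map_smul]
  haveI : Nontrivial (A.eigenspace α) := Submodule.nontrivial_iff_ne_bot.mpr hα
  obtain ⟨β, hβ⟩ := Module.End.exists_eigenvalue (B.restrict hmap)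
  obtain ⟨w, hw⟩ := hβ.exists_hasEigenvector
  have hv : (w : U) ≠ 0 := fun e => hw.2 (Subtype.ext e)
  have hAv : A w = α • (w : U) := Module.End.mem_eigenspace_iff.mp w.2
  have hBv : B w = β • (w : U) := congrArg Subtype.val hw.apply_eq_smul
  obtain ⟨k₁, -, hk₁⟩ := R.tc_eigen_cases _ α _ hv hAv
  obtain ⟨k₂, -, hk₂⟩ := R.tc_eigen_cases _ β _ hv hBv
  generalize 2 * Real.cos (2 * Real.pi * k₁ / orderOf (i * (p * b⁻¹ * p⁻¹))) = a at hk₁
  generalize 2 * Real.cos (2 * Real.pi * k₂ / orderOf (b * i * b⁻¹ * (p * b⁻¹ * p⁻¹))) = c at hk₂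
  subst hk₁ hk₂
  have hCv : C w = ((1 - a - c : ℝ) : ℂ) • (w : U) := by
    rw [eq_sub_of_add_eq' hs, LinearMap.sub_apply, LinearMap.add_apply, hAv, hBv, Module.End.one_apply]
    push_cast
    rw [sub_smul, sub_smul, one_smul]
    abel
  refine ⟨w, a, c, 1 - a - c, hv, hAv, hBv, hCv, by ring, ?_⟩
  have h3 := LinearMap.congr_fun hq (w : U)
  simp only [LinearMap.add_apply, Module.End.mul_apply, hAv, hBv, hCv, map_smul, smul_smul,
    ← add_smul] at h3
  rw [show (3 : Module.End ℂ U) = ((3 : ℕ) : Module.End ℂ U) from rfl, Module.End.natCast_apply,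
    ← Nat.cast_smul_eq_nsmul ℂ] at h3
  have h4 := smul_left_injective ℂ hv h3
  exact Complex.ofReal_injective (by push_cast at h4 ⊢; exact h4)

/-- Two frames: a common unit, or one unit with trace zero. -/
theorem frame_cases {b i p : G} (hb : orderOf b = 3) (hi : IsFrame b i) (hp : IsFrame b p) :
    (i = p ∨ b * i * b⁻¹ = p ∨ b⁻¹ * i * b = p) ∨
      R.ρ i * R.ρ p + R.ρ p * R.ρ i = -1 ∨
      R.ρ (b * i * b⁻¹) * R.ρ p + R.ρ p * R.ρ (b * i * b⁻¹) = -1 ∨
      R.ρ (b⁻¹ * i * b) * R.ρ p + R.ρ p * R.ρ (b⁻¹ * i * b) = -1 := by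
  obtain ⟨e1, -, -⟩ := conj_three (i := i) hb
  have hj : IsFrame b (b * i * b⁻¹) := hi.conj
  have hk : IsFrame b (b⁻¹ * i * b) := e1 ▸ hj.conj
  have hy : orderOf (p * b⁻¹ * p⁻¹) = 3 := by rw [orderOf_conj', orderOf_inv, hb]
  obtain ⟨v, a, c, d, hv, hav, hcv, hdv, hs, hq⟩ := R.common_eigen hb hi hp
  have key : ∀ x, IsFrame b x → ∀ t : ℝ, R.tc (x * (p * b⁻¹ * p⁻¹)) v = (t : ℂ) • v →
      x = p ∨ R.ρ x * R.ρ p + R.ρ p * R.ρ x = -1 ∨ IsTraceValue t := by
    intro x hx t ht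
    have := R.order_four_three x _ hx.1 hy
    simp only [Finset.mem_insert, Finset.mem_singleton] at this
    rcases this with h | h | h
    · exact Or.inl (R.eq_of_tc_three hb hx hp h)
    · exact Or.inr (Or.inl (R.anticomm_of_tc_four hb hx hp h))
    · exact Or.inr (Or.inr (R.tc_trace_value _ (by simp only [Finset.mem_insert, Finset.mem_singleton]; exact h) t v hv ht))
  rcases key i hi a hav with h | h | ha
  · exact Or.inl (Or.inl h)
  · exact Or.inr (Or.inl h)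
  rcases key _ hj c hcv with h | h | hc
  · exact Or.inl (Or.inr (Or.inl h))
  · exact Or.inr (Or.inr (Or.inl h))
  rcases key _ hk d hdv with h | h | hd
  · exact Or.inl (Or.inr (Or.inr h))
  · exact Or.inr (Or.inr (Or.inr h))
  exact (no_triple ha hc hd hs hq).elim

end Rep

end H58.Zass
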