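import Cfsg.Agent.H58.Zass.Pairs

/-!
The elements of order three: neighbours, bound, and common centraliser.
-/

set_option autoImplicit false

namespace H58.Zass

namespace Rep

open Finset

variable {G : Type*} [Group G] [Finite G] {U : Type*} [NormedAddCommGroup U] [InnerProductSpace ℂ U]
  [FiniteDimensional ℂ U]

/-- Frames at `b` lie in the orbits of `i` and of one partner. -/
theorem frames_cover (R : Rep G U) {b i : G} (hb : orderOf b = 3) (hi : IsFrame b i) :
    ∃ p₀ : G, IsFrame b p₀ ∧ (∀ p, IsFrame b p → p ∈ ({i, b * i * b⁻¹, b⁻¹ * i * b,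
        p₀, b * p₀ * b⁻¹, b⁻¹ * p₀ * b} : Set G)) ∧
      ∀ g, Commute g b → Commute g i → Commute g p₀ := by
  obtain ⟨e1, e2, e3⟩ := conj_three (i := i) hb
  classical
  by_cases hp : ∃ p, IsFrame b p ∧ R.ρ i * R.ρ p + R.ρ p * R.ρ i = -1
  · obtain ⟨p₀, hp₀, hn⟩ := hp
    refine ⟨p₀, hp₀, fun p hp => ?_, fun g hgb hgi => ?_⟩
    · rcases R.frame_cases hb hi hp with (h | h | h) | h | h | h
      · simp [h]
      · simp [h]
      · simp [h]
      · simp [R.partner_unique hb hi hp hp₀ h hn]
      · have h' := R.anticomm_conj b _ _ h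
        rw [e3] at h'
        have hp' : IsFrame b (b⁻¹ * p * b) := (conj_three (i := p) hb).1 ▸ hp.conj.conj
        have := R.partner_unique hb hi hp' hp₀ h' hn
        have : b * p₀ * b⁻¹ = p := by rw [← this]; group
        simp [this]
      · have h' := R.anticomm_conj b⁻¹ _ _ h
        rw [inv_inv, e2] at h'
        have := R.partner_unique hb hi hp.conj hp₀ h' hn
        have : b⁻¹ * p₀ * b = p := by rw [← this]; group
        simp [this]
    · have hgp : IsFrame b (g⁻¹ * p₀ * g) := by
        have hc := orderOf_conj' g⁻¹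
        simp only [inv_inv] at hc
        refine ⟨(hc p₀).trans hp₀.1, ?_⟩
        rw [show b⁻¹ * (g⁻¹ * p₀ * g) = g⁻¹ * (b⁻¹ * p₀) * g by
          have : b⁻¹ * g⁻¹ = g⁻¹ * b⁻¹ := (hgb.inv_inv.symm).eq
          rw [← mul_assoc, ← mul_assoc, this]; group, hc, hp₀.2]
      have h' := R.anticomm_conj g _ _ hn
      rw [show g⁻¹ * i * g = i by rw [mul_assoc, ← hgi.eq, inv_mul_cancel_left]] at h'
      have := R.partner_unique hb hi hgp hp₀ h' hn
      show g * p₀ = p₀ * g
      conv_lhs => rw [← this]
      group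
  · push Not at hp
    refine ⟨i, hi, fun p hp' => ?_, fun g _ hgi => hgi⟩
    rcases R.frame_cases hb hi hp' with (h | h | h) | h | h | h
    · simp [h]
    · simp [h]
    · simp [h]
    · exact absurd h (hp p hp')
    · have h' := R.anticomm_conj b _ _ h
      rw [e3] at h'
      exact absurd h' (hp _ ((conj_three (i := p) hb).1 ▸ hp'.conj.conj))
    · have h' := R.anticomm_conj b⁻¹ _ _ h
      rw [inv_inv, e2] at h'
      exact absurd h' (hp _ hp'.conj)

theorem card_frames_le (R : Rep G U) [Fintype G] [DecidableEq G] {b : G} (hb : orderOf b = 3) :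
    #(univ.filter fun y : G => orderOf y = 3 ∧ orderOf (b * y) = 4) ≤ 6 := by
  classical
  by_cases h : ∃ y : G, orderOf y = 3 ∧ orderOf (b * y) = 4
  · obtain ⟨y, hy, hby⟩ := h
    obtain ⟨p₀, -, hcov, -⟩ := R.frames_cover hb (i := b * y) ⟨hby, by simpa using hy⟩
    set i := b * y
    calc _ ≤ #(({i, b * i * b⁻¹, b⁻¹ * i * b, p₀, b * p₀ * b⁻¹, b⁻¹ * p₀ * b} : Finset G).image (b⁻¹ * ·)) := by
          refine card_le_card fun z hz => ?_
          rw [mem_filter] at hz
          have := hcov (b * z) ⟨hz.2.2, by simpa using hz.2.1⟩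
          refine mem_image.mpr ⟨b * z, ?_, by simp⟩
          simpa using this
      _ ≤ _ := le_trans card_image_le (by
          refine (card_insert_le _ _).trans ?_
          refine Nat.succ_le_succ ((card_insert_le _ _).trans (Nat.succ_le_succ
            ((card_insert_le _ _).trans (Nat.succ_le_succ ((card_insert_le _ _).trans
              (Nat.succ_le_succ ((card_insert_le _ _).trans (le_of_eq ?_))))))))
          simp)
  · push Not at h
    rw [filter_eq_empty_iff.mpr fun y _ hy => h y hy.1 hy.2]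
    simp

theorem card_near_le (R : Rep G U) [Fintype G] [DecidableEq G] {b : G} (hb : orderOf b = 3) :
    #(univ.filter fun y : G => orderOf y = 3 ∧ (orderOf (b * y) = 4 ∨ orderOf (b * y) = 6)) ≤ 12 := by
  classical
  set A := univ.filter fun y : G => orderOf y = 3 ∧ orderOf (b * y) = 4
  have hA : #A ≤ 6 := R.card_frames_le hb
  calc _ ≤ #(A ∪ A.image (·⁻¹)) := by
        refine card_le_card fun y hy => ?_
        rw [mem_filter] at hy
        rcases hy.2.2 with h | h
        · exact mem_union_left _ (mem_filter.mpr ⟨mem_univ _, hy.2.1, h⟩)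
        · refine mem_union_right _ (mem_image.mpr ⟨y⁻¹, mem_filter.mpr ⟨mem_univ _,
            by rw [orderOf_inv, hy.2.1], R.anticomm_of_six hb hy.2.1 h⟩, inv_inv y⟩)
    _ ≤ 12 := (card_union_le _ _).trans (by have := card_image_le (s := A) (f := (·⁻¹)); omega)

/-- The bound on the number of elements of order three. -/
theorem card_order_three_le (R : Rep G U) [Fintype G] {b : G} (hb : orderOf b = 3) :
    #(univ.filter fun y : G => orderOf y = 3) ≤ 32 := by
  classical
  set A := univ.filter fun y : G => orderOf y = 3 ∧ orderOf (b * y) = 4 with hA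
  set F := univ.filter fun y : G => orderOf y = 3 ∧ orderOf (b * y) = 10 with hF
  set r : G → G → Prop := fun T y => orderOf (T * y) = 4 ∨ orderOf (T * y) = 6 with hr
  have hbinv : orderOf b⁻¹ = 3 := by rw [orderOf_inv, hb]
  have hT : ∀ T ∈ A, #(F.bipartiteAbove r T) ≤ 6 := by
    intro T hT
    rw [hA, mem_filter] at hT
    obtain ⟨-, hT3, hT4⟩ := hT
    have hT3' : orderOf T⁻¹ = 3 := by rw [orderOf_inv, hT3]
    have hbT : orderOf (T * b) = 4 := by
      rw [show T * b = b⁻¹ * (b * T) * b⁻¹⁻¹ by group, orderOf_conj', hT4]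
    have hi : IsFrame b (b * T) := ⟨hT4, by simpa using hT3⟩
    set T₁ := b * T * b⁻¹ with hT1d
    set T₂ := b⁻¹ * T * b with hT2d
    have hT₁ : orderOf T₁ = 3 := (orderOf_conj' b T).trans hT3
    have hT₂ : orderOf T₂ = 3 := by
      rw [hT2d, show b⁻¹ * T * b = b⁻¹ * T * b⁻¹⁻¹ by group, orderOf_conj', hT3]
    have hbT₁ : orderOf (b * T₁) = 4 := by
      rw [hT1d, show b * (b * T * b⁻¹) = b * (b * T) * b⁻¹ by group, orderOf_conj', hT4]
    have hbT₂ : orderOf (b * T₂) = 4 := by
      rw [hT2d, show b * (b⁻¹ * T * b) = b⁻¹ * (b * T) * b⁻¹⁻¹ by group, orderOf_conj', hT4]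
    have hsq : ∀ x : G, orderOf x = 4 → orderOf (x * x * b) = 6 := by
      intro x hx
      obtain ⟨U', hU'⟩ : ∃ z, z = x * x := ⟨_, rfl⟩
      have hz : orderOf U' = 2 := by
        rw [hU', ← pow_two, orderOf_pow_of_dvd (by norm_num) (by rw [hx]; norm_num), hx]
      have hc : Commute U' b := R.faithful (by
        rw [map_mul, map_mul, R.invol_eq _ hz]; simp)
      rw [← hU', hc.orderOf_mul_eq_mul_orderOf_of_coprime (by rw [hz, hb]; norm_num), hz, hb]
    have hTT₁ : orderOf (T * T₁) = 6 := by
      have h3 : b * b * b = 1 := by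
        rw [← pow_two, ← pow_succ, show 2 + 1 = orderOf b by rw [hb], pow_orderOf_eq_one]
      have hzc : Commute (b * T * (b * T)) b := R.faithful (by
        have hz : orderOf (b * T * (b * T)) = 2 := by
          rw [← pow_two, orderOf_pow_of_dvd (by norm_num) (by rw [hT4]; norm_num), hT4]
        rw [map_mul _ (b * T * (b * T)), map_mul _ b, R.invol_eq _ hz]; simp)
      rw [hT1d, show T * (b * T * b⁻¹) = b⁻¹ * (b * T * (b * T)) * b⁻¹ by group,
        ← hzc.inv_right.eq, mul_assoc _ b⁻¹ b⁻¹, ← mul_inv_rev,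
        show (b * b)⁻¹ = b from inv_eq_of_mul_eq_one_right h3]
      exact hsq _ hT4
    have hTT₂ : orderOf (T * T₂) = 6 := by
      rw [← hTT₁, hT1d, hT2d, show T * (b⁻¹ * T * b) = b⁻¹ * (b * T * b⁻¹ * T) * b⁻¹⁻¹ by group,
        orderOf_conj', show b * T * b⁻¹ * T = T⁻¹ * (T * (b * T * b⁻¹)) * T⁻¹⁻¹ by group, orderOf_conj']
    have hnb : ¬ Commute b T := by
      intro hc
      have h12 := hc.orderOf_mul_dvd_mul_orderOf
      rw [hT4, hb, hT3] at h12
      norm_num at h12
    have hne12 : T₁ ≠ T₂ := by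
      intro e
      apply hnb
      have h1 : b * b * T = T * (b * b) := by
        have := congrArg (fun x => b * x * b) e
        simpa [hT1d, hT2d, mul_assoc] using this
      have hb4 : (b * b) * (b * b) = b := by
        calc (b * b) * (b * b) = b ^ (orderOf b) * b := by rw [hb, pow_succ, pow_two]; group
          _ = b := by rw [pow_orderOf_eq_one, one_mul]
      have hc2 : Commute (b * b) T := h1
      rw [← hb4]
      exact hc2.mul_left hc2
    set six : Finset G := {b, b⁻¹, T₁, T₁⁻¹, T₂, T₂⁻¹}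
    have hsub : six ⊆ univ.filter fun y : G => orderOf y = 3 ∧ (orderOf (T * y) = 4 ∨ orderOf (T * y) = 6) := by
      intro y hy
      simp only [six, mem_insert, mem_singleton] at hy
      rw [mem_filter]
      refine ⟨mem_univ _, ?_⟩
      rcases hy with rfl | rfl | rfl | rfl | rfl | rfl
      · exact ⟨hb, Or.inl hbT⟩
      · exact ⟨hbinv, Or.inr (R.six_of_four hT3 hb hbT)⟩
      · exact ⟨hT₁, Or.inr hTT₁⟩
      · exact ⟨by rw [orderOf_inv, hT₁], Or.inl (R.anticomm_of_six hT3 hT₁ hTT₁)⟩
      · exact ⟨hT₂, Or.inr hTT₂⟩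
      · exact ⟨by rw [orderOf_inv, hT₂], Or.inl (R.anticomm_of_six hT3 hT₂ hTT₂)⟩
    have hb6 : orderOf (b * T₁⁻¹) = 6 := R.six_of_four hb hT₁ hbT₁
    have hb6' : orderOf (b * T₂⁻¹) = 6 := R.six_of_four hb hT₂ hbT₂
    have hbb : orderOf (b * b) = 3 := by
      rw [show b * b = b⁻¹ from eq_inv_of_mul_eq_one_left (by
        rw [← pow_two, ← pow_succ, show 2 + 1 = orderOf b by rw [hb], pow_orderOf_eq_one]), orderOf_inv, hb]
    have hsix : #six = 6 := by
      have hord : ∀ x y : G, orderOf (b * x) ≠ orderOf (b * y) → x ≠ y := fun x y h e => h (by rw [e])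
      have h1 : orderOf (b * b⁻¹) = 1 := by simp
      rw [card_insert_of_notMem, card_insert_of_notMem, card_insert_of_notMem, card_insert_of_notMem,
        card_insert_of_notMem, card_singleton]
      all_goals simp only [mem_insert, mem_singleton, not_or]
      · exact hord _ _ (by omega)
      · exact ⟨hord _ _ (by omega), fun e => hne12 (inv_inj.mp e)⟩
      · exact ⟨hord _ _ (by omega), hne12, hord _ _ (by omega)⟩
      · exact ⟨hord _ _ (by omega), hord _ _ (by omega), hord _ _ (by omega), hord _ _ (by omega)⟩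
      · exact ⟨hord _ _ (by omega), hord _ _ (by omega), hord _ _ (by omega), hord _ _ (by omega),
          hord _ _ (by omega)⟩
    have hdisj : Disjoint (F.bipartiteAbove r T) six := by
      rw [disjoint_right]
      intro y hy hyF
      rw [bipartiteAbove, mem_filter, hF, mem_filter] at hyF
      simp only [six, mem_insert, mem_singleton] at hy
      have h10 := hyF.1.2.2
      have h1 : orderOf (b * b⁻¹) = 1 := by simp
      rcases hy with rfl | rfl | rfl | rfl | rfl | rfl <;> omega
    have hcard : #(F.bipartiteAbove r T ∪ six) ≤ 12 := by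
      refine le_trans (card_le_card (union_subset (fun y hy => ?_) hsub)) (R.card_near_le hT3)
      rw [bipartiteAbove, mem_filter, hF, mem_filter] at hy
      exact mem_filter.mpr ⟨mem_univ _, hy.1.2.1, hy.2⟩
    rw [card_union_of_disjoint hdisj, hsix] at hcard
    omega
  have hy : ∀ y ∈ F, 2 ≤ #(A.bipartiteBelow r y) := by
    intro y hy
    rw [hF, mem_filter] at hy
    obtain ⟨-, hy3, hy10⟩ := hy
    have hsq := R.sq_anticomm_ten hb hy3 hy10
    obtain ⟨hR4, hT4⟩ := R.conj_neighbour hb hy3 hsq
    obtain ⟨hR4', hT4'⟩ := R.conj_neighbour hbinv hy3 (R.sq_anticomm_inv hb hsq)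
    rw [inv_inv] at hT4'
    set R₀ := y * b * y⁻¹ with hR₀
    have hR3 : orderOf R₀ = 3 := (orderOf_conj' y b).trans hb
    have hR0inv : y * b⁻¹ * y⁻¹ = R₀⁻¹ := by rw [hR₀]; group
    rw [hR0inv] at hR4' hT4'
    set T := b * R₀ * b⁻¹ with hTd
    set T' := b⁻¹ * R₀⁻¹ * b with hT'd
    have hT3 : orderOf T = 3 := (orderOf_conj' b R₀).trans hR3
    have hT'3 : orderOf T' = 3 := by
      rw [hT'd, show b⁻¹ * R₀⁻¹ * b = b⁻¹ * R₀⁻¹ * b⁻¹⁻¹ by group, orderOf_conj', orderOf_inv, hR3]
    have hbT : orderOf (b * T) = 4 := by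
      rw [hTd, show b * (b * R₀ * b⁻¹) = b * (b * R₀) * b⁻¹ by group, orderOf_conj', hR4]
    have hbT' : orderOf (b * T'⁻¹) = 4 := by
      rw [← orderOf_inv, hT'd]
      rw [show (b * (b⁻¹ * R₀⁻¹ * b)⁻¹)⁻¹ = b⁻¹ * (R₀⁻¹ * b⁻¹) * b⁻¹⁻¹ * 1 by group, mul_one,
        orderOf_conj', show R₀⁻¹ * b⁻¹ = b * (b⁻¹ * R₀⁻¹) * b⁻¹ by group, orderOf_conj', hR4']
    have hrT : r T y := Or.inl hT4
    have hrT' : r T'⁻¹ y := Or.inr (by
      have h := R.six_of_four hy3 hT'3 (by
        rw [show y * T' = y * (T' * y) * y⁻¹ by group, orderOf_conj', hT4'])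
      rw [show T'⁻¹ * y = y⁻¹ * (y * T'⁻¹) * y⁻¹⁻¹ by group, orderOf_conj', h])
    have hne : T ≠ T'⁻¹ := by
      intro e
      have h1 : b * R₀ * b⁻¹ = b⁻¹ * R₀ * b := by
        rw [← hTd, e, hT'd]; group
      have h2 : b * b * R₀ = R₀ * (b * b) := by
        have := congrArg (fun x => b * x * b) h1
        simpa [mul_assoc] using this
      have hb4 : (b * b) * (b * b) = b := by
        calc (b * b) * (b * b) = b ^ (orderOf b) * b := by rw [hb, pow_succ, pow_two]; group
          _ = b := by rw [pow_orderOf_eq_one, one_mul]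
      have hc2 : Commute (b * b) R₀ := h2
      have hc : Commute b R₀ := hb4 ▸ hc2.mul_left hc2
      have h12 := hc.orderOf_mul_dvd_mul_orderOf
      rw [hR4, hb, hR3] at h12
      norm_num at h12
    calc 2 = #({T, T'⁻¹} : Finset G) := (card_pair hne).symm
      _ ≤ _ := by
        refine card_le_card fun x hx => ?_
        rw [mem_bipartiteBelow, hA, mem_filter]
        simp only [mem_insert, mem_singleton] at hx
        rcases hx with rfl | rfl
        · exact ⟨⟨mem_univ _, hT3, hbT⟩, hrT⟩
        · exact ⟨⟨mem_univ _, by rw [orderOf_inv, hT'3], hbT'⟩, hrT'⟩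
  have h18 : #F * 2 ≤ #A * 6 := card_mul_le_card_mul' r hy hT
  have hA6 : #A ≤ 6 := R.card_frames_le hb
  set N := univ.filter fun y : G => orderOf y = 3 ∧ (orderOf (b * y) = 4 ∨ orderOf (b * y) = 6)
  have hN : #N ≤ 12 := R.card_near_le hb
  have hsub : (univ.filter fun y : G => orderOf y = 3) ⊆ {b, b⁻¹} ∪ N ∪ F := by
    intro y hy
    rw [mem_filter] at hy
    simp only [mem_union, mem_insert, mem_singleton, N, hF, mem_filter, mem_univ, true_and]
    rcases R.order_cases hb hy.2 with h | h | h | h | h <;> tauto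
  refine (card_le_card hsub).trans ((card_union_le _ _).trans ?_)
  have := card_union_le ({b, b⁻¹} : Finset G) N
  have := card_le_two (a := b) (b := b⁻¹)
  omega

/-- What fixes `b` and one of its frames fixes every element of order three. -/
theorem commute_all (R : Rep G U) {b i : G} (hb : orderOf b = 3) (hi : IsFrame b i) {g : G}
    (hgb : Commute g b) (hgi : Commute g i) {y : G} (hy : orderOf y = 3) : Commute g y := by
  have step : ∀ {c j : G}, orderOf c = 3 → IsFrame c j → Commute g c → Commute g j →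
      ∀ {x : G}, orderOf x = 3 → (orderOf (c * x) = 4 ∨ orderOf (c * x) = 6) → Commute g x := by
    intro c j hc hj hgc hgj x hx h
    have four : ∀ {x : G}, orderOf x = 3 → orderOf (c * x) = 4 → Commute g x := by
      intro x hx h
      obtain ⟨p₀, -, hcov, hfix⟩ := R.frames_cover hc hj
      have hp := hfix g hgc hgj
      have hcx : Commute g (c * x) := by
        have := hcov (c * x) ⟨h, by simpa using hx⟩
        simp only [Set.mem_insert_iff, Set.mem_singleton_iff] at this
        rcases this with e | e | e | e | e | e <;> rw [e]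
        · exact hgj
        · exact (hgc.mul_right hgj).mul_right hgc.inv_right
        · exact (hgc.inv_right.mul_right hgj).mul_right hgc
        · exact hp
        · exact (hgc.mul_right hp).mul_right hgc.inv_right
        · exact (hgc.inv_right.mul_right hp).mul_right hgc
      simpa using hgc.inv_right.mul_right hcx
    rcases h with h | h
    · exact four hx h
    · simpa using (four (by rw [orderOf_inv, hx]) (R.anticomm_of_six hc hx h)).inv_right
  rcases R.order_cases hb hy with rfl | rfl | h | h | h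
  · exact hgb
  · exact hgb.inv_right
  · exact step hb hi hgb hgi hy (Or.inl h)
  · exact step hb hi hgb hgi hy (Or.inr h)
  · obtain ⟨hR4, hT4⟩ := R.conj_neighbour hb hy (R.sq_anticomm_ten hb hy h)
    set T := b * (y * b * y⁻¹) * b⁻¹ with hTd
    have hT3 : orderOf T = 3 := (orderOf_conj' b _).trans ((orderOf_conj' y b).trans hb)
    have hbT : orderOf (b * T) = 4 := by
      rw [hTd, show b * (b * (y * b * y⁻¹) * b⁻¹) = b * (b * (y * b * y⁻¹)) * b⁻¹ by group,
        orderOf_conj', hR4]
    have hgT := step hb hi hgb hgi hT3 (Or.inl hbT)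
    have hTb : IsFrame T (T * b) := by
      refine ⟨?_, by simpa using hb⟩
      rw [show T * b = b⁻¹ * (b * T) * b⁻¹⁻¹ by group, orderOf_conj', hbT]
    exact step hT3 hTb hgT (hgT.mul_right hgb) hy (Or.inl hT4)

end Rep

end H58.Zass
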