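import Cfsg.Agent.H28.FCCriterion

/-!
A unitary fixed-point-free model of a group satisfying the integral Frobenius complement
criterion, with all primitive roots of unity as eigenvalues.
-/

set_option autoImplicit false

namespace H58.Zass

open Polynomial
open scoped InnerProductSpace ComplexConjugate

/-- A unitary fixed-point-free representation with all primitive roots as eigenvalues. -/
structure Rep (G : Type*) [Group G] (U : Type*) [NormedAddCommGroup U] [InnerProductSpace ℂ U] where
  /-- The representation. -/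
  ρ : G →* Module.End ℂ U
  inner_map : ∀ (g : G) (x y : U), ⟪ρ g x, ρ g y⟫_ℂ = ⟪x, y⟫_ℂ
  fpf : ∀ (g : G) (v : U), ρ g v = v → v ≠ 0 → g = 1
  eigen : ∀ (g : G) (ζ : ℂ), IsPrimitiveRoot ζ (orderOf g) → ∃ v : U, v ≠ 0 ∧ ρ g v = ζ • v
  nonzero : ∃ v : U, v ≠ 0

variable {G : Type*} [Group G]

/-- The space of solutions of the coset equations. -/
def solSpace (G : Type*) [Group G] [Fintype G] : Submodule ℂ (EuclideanSpace ℂ G) where
  carrier := {f | H28.FCSol (fun x => f x)}
  zero_mem' := fun h x _ => by simp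
  add_mem' := fun {f₁ f₂} h₁ h₂ h x hp => by
    simp only [PiLp.add_apply]
    rw [Finset.sum_add_distrib, h₁ h x hp, h₂ h x hp, add_zero]
  smul_mem' := fun c f hf h x hp => by
    simp only [PiLp.smul_apply, smul_eq_mul]
    rw [← Finset.mul_sum, hf h x hp, mul_zero]

/-- Left translation. -/
def transl [Fintype G] : G →* Module.End ℂ (solSpace G) where
  toFun g :=
    { toFun := fun f => ⟨WithLp.toLp 2 (fun x => (f : EuclideanSpace ℂ G) (g⁻¹ * x)), fun h x hp => by
        have := f.2 h (g⁻¹ * x) hp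
        simpa [mul_assoc] using this⟩
      map_add' := fun f₁ f₂ => by ext x; simp
      map_smul' := fun c f => by ext x; simp }
  map_one' := by ext f x; simp
  map_mul' g₁ g₂ := by ext f x; simp [mul_assoc]

theorem transl_apply [Fintype G] (g : G) (f : solSpace G) (x : G) :
    (transl g f : EuclideanSpace ℂ G) x = (f : EuclideanSpace ℂ G) (g⁻¹ * x) := rfl

theorem transl_fpf [Fintype G] (g : G) (f : solSpace G) (hf : transl g f = f) (hf0 : f ≠ 0) :
    g = 1 := by
  by_contra hg
  apply hf0
  have hfix : ∀ (m : ℕ) (x : G), (f : EuclideanSpace ℂ G) (g ^ m * x) = (f : EuclideanSpace ℂ G) x := by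
    intro m
    induction m with
    | zero => simp
    | succ m ih =>
      intro x
      have h1 := congrArg (fun (u : solSpace G) => (u : EuclideanSpace ℂ G) (g * (g ^ m * x))) hf
      simp only [transl_apply, inv_mul_cancel_left] at h1
      rw [pow_succ', mul_assoc, ← h1, ih]
  have hn : orderOf g ≠ 1 := fun e => hg (orderOf_eq_one_iff.mp e)
  obtain ⟨q, hq, hdvd⟩ := Nat.exists_prime_and_dvd hn
  obtain ⟨m, hm⟩ := hdvd
  have hh : orderOf (g ^ m) = q := by
    have hm0 : m ≠ 0 := by rintro rfl; rw [mul_zero] at hm; exact (orderOf_pos g).ne' hm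
    rw [orderOf_pow_of_dvd hm0 (hm ▸ dvd_mul_left m q), hm, Nat.mul_div_cancel _ (Nat.pos_of_ne_zero hm0)]
  ext x
  have hord : orderOf (x⁻¹ * g ^ m * x) = q := by
    have := MulEquiv.orderOf_eq (MulAut.conj x⁻¹) (g ^ m)
    rw [MulAut.conj_apply, inv_inv] at this
    rw [this, hh]
  have h1 := f.2 (x⁻¹ * g ^ m * x) x (hord ▸ hq)
  rw [hord] at h1
  have h2 : ∀ i : ℕ, x * (x⁻¹ * g ^ m * x) ^ i = g ^ (m * i) * x := fun i => by
    have : x⁻¹ * g ^ m * x = MulAut.conj x⁻¹ (g ^ m) := by simp
    rw [this, ← map_pow, ← pow_mul]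
    simp [mul_assoc]
  simp only [h2, hfix, Finset.sum_const, Finset.card_range, nsmul_eq_mul, mul_eq_zero,
    Nat.cast_eq_zero, hq.ne_zero, false_or] at h1
  simpa using h1

theorem aeval_X_pow_transl [Fintype G] (g : G) (i : ℕ) :
    aeval (transl g) (X ^ i : ℂ[X]) = transl (g ^ i) := by
  rw [aeval_X_pow, map_pow]

theorem transl_inner [Fintype G] (g : G) (x y : solSpace G) :
    ⟪transl g x, transl g y⟫_ℂ = ⟪x, y⟫_ℂ := by
  simp only [Submodule.coe_inner, PiLp.inner_apply, transl_apply]
  exact Fintype.sum_equiv (Equiv.mulLeft g⁻¹) _ _ fun _ => rfl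

/-- A polynomial kills a rational vector as soon as a monic complex one of the same degree does. -/
theorem exists_rat_poly [Fintype G] (g : G) (F : solSpace G) (w : G → ℚ)
    (hw : ∀ x, (F : EuclideanSpace ℂ G) x = (w x : ℂ)) (R : ℂ[X]) (hR : R.Monic)
    (hRF : aeval (transl g) R F = 0) :
    ∃ R' : ℚ[X], R'.Monic ∧ R'.natDegree = R.natDegree ∧
      aeval (transl g) (R'.map (algebraMap ℚ ℂ)) F = 0 := by
  obtain ⟨π, hπ⟩ := LinearMap.exists_leftInverse_of_injective (Algebra.linearMap ℚ ℂ)
    (LinearMap.ker_eq_bot.mpr (algebraMap ℚ ℂ).injective)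
  have hπ1 : ∀ r : ℚ, π (r : ℂ) = r := fun r => by
    simpa using LinearMap.congr_fun hπ r
  let R' : ℚ[X] := X ^ R.natDegree + ∑ i ∈ Finset.range R.natDegree, C (π (R.coeff i)) * X ^ i
  have hdeg : (∑ i ∈ Finset.range R.natDegree, C (π (R.coeff i)) * X ^ i).degree < (R.natDegree : WithBot ℕ) := by
    refine lt_of_le_of_lt (Polynomial.degree_sum_le _ _) ?_
    rw [Finset.sup_lt_iff (WithBot.bot_lt_coe _)]
    intro i hi
    exact lt_of_le_of_lt (degree_C_mul_X_pow_le _ _) (WithBot.coe_lt_coe.mpr (Finset.mem_range.mp hi))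
  refine ⟨R', monic_X_pow_add hdeg, ?_, ?_⟩
  · rw [natDegree_eq_of_degree_eq_some]
    rw [degree_add_eq_left_of_degree_lt] <;> rw [degree_X_pow]
    exact hdeg
  · have hev : ∀ (Q : ℂ[X]) (x : G), (aeval (transl g) Q F : EuclideanSpace ℂ G) x =
        Q.sum fun i c => c * ((w ((g ^ i)⁻¹ * x) : ℚ) : ℂ) := by
      intro Q x
      conv_lhs => rw [aeval_eq_sum_range]
      rw [Polynomial.sum_over_range _ (by simp)]
      simp only [LinearMap.sum_apply, LinearMap.smul_apply, Submodule.coe_sum, Submodule.coe_smul,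
        WithLp.ofLp_sum, Finset.sum_apply, PiLp.smul_apply, smul_eq_mul, ← map_pow, transl_apply, hw]
    ext x
    have h1 := congrArg (fun u : solSpace G => π ((u : EuclideanSpace ℂ G) x)) hRF
    simp only [hev, ZeroMemClass.coe_zero, PiLp.zero_apply, map_zero] at h1
    rw [Polynomial.sum_over_range _ (by simp), map_sum] at h1
    have h2 : ∀ (c : ℂ) (r : ℚ), π (c * (r : ℂ)) = π c * r := fun c r => by
      rw [mul_comm, ← Rat.smul_def, map_smul, smul_eq_mul, mul_comm]
    simp only [h2] at h1
    rw [Finset.sum_range_succ, hR.coeff_natDegree, show π (1 : ℂ) = 1 by simpa using hπ1 1, one_mul] at h1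
    change (aeval (transl g) _ F : EuclideanSpace ℂ G) x = 0
    have h3 : R'.map (algebraMap ℚ ℂ) = X ^ R.natDegree +
        ∑ i ∈ Finset.range R.natDegree, C ((π (R.coeff i) : ℚ) : ℂ) * X ^ i := by
      simp [R', Polynomial.map_sum]
    rw [h3]
    simp only [map_add, map_sum, map_mul, aeval_X_pow_transl, aeval_C, LinearMap.add_apply,
      LinearMap.sum_apply, Module.End.mul_apply, Module.algebraMap_end_apply, Submodule.coe_add,
      Submodule.coe_sum, Submodule.coe_smul, WithLp.ofLp_add, WithLp.ofLp_sum, Pi.add_apply,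
      Finset.sum_apply, PiLp.smul_apply, smul_eq_mul, transl_apply, hw]
    rw [add_comm]
    exact_mod_cast h1

theorem transl_eigen [Fintype G] (F : solSpace G) (hF0 : F ≠ 0) (w : G → ℚ)
    (hw : ∀ x, (F : EuclideanSpace ℂ G) x = (w x : ℂ)) (g : G) (ζ : ℂ)
    (hζ : IsPrimitiveRoot ζ (orderOf g)) :
    ∃ v : solSpace G, v ≠ 0 ∧ transl g v = ζ • v := by
  set n := orderOf g with hn
  have hn0 : 0 < n := orderOf_pos g
  have hinj : ∀ d, d ∣ n → d ≠ n → ∀ v, aeval (transl g) (cyclotomic d ℂ) v = 0 → v = 0 := by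
    intro d hd hdn v hv
    by_contra hv0
    have hd0 : 0 < d := Nat.pos_of_dvd_of_pos hd hn0
    obtain ⟨Q, hQ⟩ := cyclotomic.dvd_X_pow_sub_one d ℂ
    have h1 : aeval (transl g) (X ^ d - 1 : ℂ[X]) v = 0 := by
      rw [hQ, mul_comm, map_mul, Module.End.mul_apply, hv, map_zero]
    simp only [map_sub, aeval_X_pow_transl, map_one, LinearMap.sub_apply, Module.End.one_apply,
      sub_eq_zero] at h1
    have := orderOf_dvd_of_pow_eq_one (transl_fpf _ v h1 hv0)
    exact hdn (Nat.dvd_antisymm hd this)
  have hkill : ∀ v, aeval (transl g) (cyclotomic n ℂ) v = 0 := by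
    intro v
    have h1 : aeval (transl g) (∏ d ∈ n.divisors.erase n, cyclotomic d ℂ)
        (aeval (transl g) (cyclotomic n ℂ) v) = 0 := by
      rw [← Module.End.mul_apply, ← map_mul, mul_comm,
        Finset.mul_prod_erase n.divisors (fun d => cyclotomic d ℂ) (Nat.mem_divisors_self n hn0.ne'),
        prod_cyclotomic_eq_X_pow_sub_one hn0]
      simp only [map_sub, aeval_X_pow_transl, map_one, LinearMap.sub_apply, Module.End.one_apply, hn,
        pow_orderOf_eq_one, map_one, sub_self, LinearMap.zero_apply, Module.End.one_apply]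
    revert h1
    generalize aeval (transl g) (cyclotomic n ℂ) v = u
    have : ∀ S : Finset ℕ, S ⊆ n.divisors.erase n →
        ∀ u, aeval (transl g) (∏ d ∈ S, cyclotomic d ℂ) u = 0 → u = 0 := by
      intro S
      induction S using Finset.induction_on with
      | empty => intro _ u hu; simpa using hu
      | @insert d S hdS ih =>
        intro hsub u hu
        rw [Finset.insert_subset_iff, Finset.mem_erase, Nat.mem_divisors] at hsub
        rw [Finset.prod_insert hdS, map_mul, Module.End.mul_apply] at hu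
        exact ih hsub.2 u (hinj d hsub.1.2.1 hsub.1.1 _ hu)
    exact this _ subset_rfl u
  have hroot : IsRoot (cyclotomic n ℂ) ζ := hζ.isRoot_cyclotomic hn0
  obtain ⟨R, hR⟩ := dvd_iff_isRoot.mpr hroot
  have hRm : R.Monic := (monic_X_sub_C ζ).of_mul_monic_left (hR ▸ cyclotomic.monic n ℂ)
  refine ⟨aeval (transl g) R F, fun h0 => ?_, ?_⟩
  · obtain ⟨R', hR'm, hR'd, hR'F⟩ := exists_rat_poly g F w hw R hRm h0
    have hdeg : R'.natDegree < (cyclotomic n ℚ).natDegree := by
      rw [hR'd, natDegree_cyclotomic, ← natDegree_cyclotomic n ℂ, hR,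
        (monic_X_sub_C ζ).natDegree_mul hRm, natDegree_X_sub_C]
      omega
    obtain ⟨a, b, hab⟩ : IsCoprime (cyclotomic n ℚ) R' := by
      rw [(cyclotomic.irreducible_rat hn0).coprime_iff_not_dvd]
      intro hd
      have := natDegree_le_of_dvd hd hR'm.ne_zero
      omega
    have h1 := congrArg (fun P : ℚ[X] => aeval (transl g) (P.map (algebraMap ℚ ℂ)) F) hab
    simp only [Polynomial.map_add, Polynomial.map_mul, Polynomial.map_one, map_add, map_mul, map_one,
      LinearMap.add_apply, Module.End.mul_apply, map_cyclotomic, hkill, hR'F, map_zero, add_zero,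
      Module.End.one_apply] at h1
    exact hF0 h1.symm
  · have h1 := hkill F
    rw [hR, map_mul, Module.End.mul_apply, map_sub, aeval_X, aeval_C, LinearMap.sub_apply,
      Module.algebraMap_end_apply, sub_eq_zero] at h1
    exact h1

/-- A group satisfying the criterion has such a representation. -/
theorem exists_rep [Fintype G] (hG : H28.FCInt G) : Nonempty (Rep G (solSpace G)) := by
  obtain ⟨f, hf, hsol⟩ := hG
  let F : solSpace G := ⟨WithLp.toLp 2 (fun x => ((f x : ℤ) : ℂ)), fun h x hp => by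
    have := congrArg (fun z : ℤ => (z : ℂ)) (hsol h x hp)
    simpa using this⟩
  have hF0 : F ≠ 0 := fun e => hf (funext fun x => by
    have := congrArg (fun u : solSpace G => (u : EuclideanSpace ℂ G) x) e
    simpa [F] using this)
  exact ⟨{ ρ := transl, inner_map := transl_inner, fpf := transl_fpf,
           eigen := transl_eigen F hF0 (fun x => (f x : ℚ)) (fun x => by simp [F]),
           nonzero := ⟨F, hF0⟩ }⟩

end H58.Zass
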