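import Cfsg.Agent.H58.Zass.Model

/-!
Relations for elements of order three and four, and the possible orders of their products.
-/

set_option autoImplicit false

namespace H58.Zass

open scoped InnerProductSpace ComplexConjugate
open Real

variable {G : Type*} [Group G] {U : Type*} [NormedAddCommGroup U] [InnerProductSpace ℂ U]

namespace Rep

variable (R : Rep G U)

/-- The operator `g + g⁻¹`. -/
def tc (g : G) : Module.End ℂ U := R.ρ g + R.ρ g⁻¹

/-- The operator `2b + 1`. -/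
def axis (b : G) : Module.End ℂ U := 2 * R.ρ b + 1

theorem apply_inv_cancel (g : G) (v : U) : R.ρ g (R.ρ g⁻¹ v) = v := by
  rw [← Module.End.mul_apply, ← map_mul, mul_inv_cancel, map_one, Module.End.one_apply]

theorem inv_apply_cancel (g : G) (v : U) : R.ρ g⁻¹ (R.ρ g v) = v := by
  rw [← Module.End.mul_apply, ← map_mul, inv_mul_cancel, map_one, Module.End.one_apply]

theorem inner_left (g : G) (x y : U) : ⟪R.ρ g x, y⟫_ℂ = ⟪x, R.ρ g⁻¹ y⟫_ℂ := by
  conv_lhs => rw [← R.apply_inv_cancel g y]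
  exact R.inner_map g _ _

theorem mul_sub_eq_zero (g : G) (hg : g ≠ 1) (X : Module.End ℂ U) (h : (R.ρ g - 1) * X = 0) :
    X = 0 := by
  refine LinearMap.ext fun v => ?_
  by_contra hv
  refine hg (R.fpf g (X v) ?_ hv)
  have := LinearMap.congr_fun h v
  simpa [sub_eq_zero] using this

theorem invol_eq (g : G) (hg : orderOf g = 2) : R.ρ g = -1 := by
  have h1 : R.ρ g * R.ρ g = 1 := by
    rw [← map_mul, ← pow_two, ← hg, pow_orderOf_eq_one, map_one]
  have := R.mul_sub_eq_zero g (fun e => by rw [e, orderOf_one] at hg; omega) (R.ρ g + 1) (by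
    simp only [mul_add, sub_mul, h1, one_mul, mul_one]; abel)
  exact eq_neg_of_add_eq_zero_left this

theorem sq_of_order_four (a : G) (ha : orderOf a = 4) : R.ρ a * R.ρ a = -1 := by
  rw [← map_mul, ← pow_two]
  refine R.invol_eq _ ?_
  rw [orderOf_pow_of_dvd (by norm_num) (by rw [ha]; norm_num), ha]

theorem inv_of_order_four (a : G) (ha : orderOf a = 4) : R.ρ a⁻¹ = -R.ρ a := by
  have h1 : R.ρ a⁻¹ * R.ρ a = 1 := by rw [← map_mul, inv_mul_cancel, map_one]
  calc R.ρ a⁻¹ = R.ρ a⁻¹ * (R.ρ a * -R.ρ a) := by rw [mul_neg, R.sq_of_order_four a ha, neg_neg, mul_one]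
    _ = -R.ρ a := by rw [← mul_assoc, h1, one_mul]

theorem sq_of_order_three (b : G) (hb : orderOf b = 3) : R.ρ b * R.ρ b = -1 - R.ρ b := by
  have h3 : R.ρ b * (R.ρ b * R.ρ b) = 1 := by
    rw [← map_mul, ← map_mul, ← pow_two, ← pow_succ', show 2 + 1 = orderOf b by rw [hb], pow_orderOf_eq_one, map_one]
  have := R.mul_sub_eq_zero b (fun e => by rw [e, orderOf_one] at hb; omega) (R.ρ b * R.ρ b + R.ρ b + 1) (by
    simp only [mul_add, sub_mul, h3, one_mul, mul_one]; abel)
  rw [add_assoc] at this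
  rw [eq_neg_of_add_eq_zero_left this]; abel

theorem inv_of_order_three (b : G) (hb : orderOf b = 3) : R.ρ b⁻¹ = -1 - R.ρ b := by
  rw [← R.sq_of_order_three b hb, ← map_mul]
  congr 1
  rw [inv_eq_iff_mul_eq_one, ← pow_two, ← pow_succ', show 2 + 1 = orderOf b by rw [hb], pow_orderOf_eq_one]

theorem tc_of_order_three (g : G) (hg : orderOf g = 3) : R.tc g = -1 := by
  rw [tc, R.inv_of_order_three g hg]; abel

theorem tc_of_order_four (g : G) (hg : orderOf g = 4) : R.tc g = 0 := by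
  rw [tc, R.inv_of_order_four g hg]; abel

theorem tc_of_order_six (g : G) (hg : orderOf g = 6) : R.tc g = 1 := by
  have h2 : R.ρ (g ^ 3) = -1 := R.invol_eq _ (by
    rw [orderOf_pow_of_dvd (by norm_num) (by rw [hg]; norm_num), hg])
  have h3 : orderOf (g ^ 4) = 3 := by
    rw [orderOf_pow' g (by norm_num), hg]; rfl
  have e1 : g⁻¹ = g ^ 3 * g ^ 2 := by
    rw [inv_eq_iff_mul_eq_one, ← pow_add, ← pow_succ', show 3 + 2 + 1 = orderOf g by rw [hg], pow_orderOf_eq_one]
  have e2 : g ^ 4 = g ^ 3 * g := by rw [← pow_succ]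
  have e3 : (g ^ 4)⁻¹ = g ^ 2 := by
    rw [inv_eq_iff_mul_eq_one, ← pow_add, show 4 + 2 = orderOf g by rw [hg], pow_orderOf_eq_one]
  have h4 := R.tc_of_order_three _ h3
  rw [tc, e3, e2, map_mul, h2, neg_one_mul] at h4
  rw [tc, e1, map_mul, h2, neg_one_mul]
  calc R.ρ g + -R.ρ (g ^ 2) = -(-R.ρ g + R.ρ (g ^ 2)) := by abel
    _ = 1 := by rw [h4, neg_neg]

theorem axis_sq (b : G) (hb : orderOf b = 3) : R.axis b * R.axis b = -3 := by
  rw [axis, show (2 * R.ρ b + 1) * (2 * R.ρ b + 1) = 4 * (R.ρ b * R.ρ b) + 4 * R.ρ b + 1 by noncomm_ring,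
    R.sq_of_order_three b hb, show (4 : Module.End ℂ U) = 1+1+1+1 by norm_num, show (3 : Module.End ℂ U) = 1+1+1 by norm_num]
  noncomm_ring

theorem axis_skew (b : G) (hb : orderOf b = 3) (x y : U) :
    ⟪R.axis b x, y⟫_ℂ = -⟪x, R.axis b y⟫_ℂ := by
  simp only [axis, two_mul, LinearMap.add_apply, Module.End.one_apply, inner_add_left, inner_add_right,
    R.inner_left, R.inv_of_order_three b hb, LinearMap.sub_apply, LinearMap.neg_apply,
    inner_sub_right, inner_neg_right]
  ring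

theorem four_skew (a : G) (ha : orderOf a = 4) (x y : U) :
    ⟪R.ρ a x, y⟫_ℂ = -⟪x, R.ρ a y⟫_ℂ := by
  rw [R.inner_left, R.inv_of_order_four a ha, LinearMap.neg_apply, inner_neg_right]

/-- The anticommutator of two skew operators is bounded. -/
theorem anticomm_bound (P Q : Module.End ℂ U) (hP : ∀ x y, ⟪P x, y⟫_ℂ = -⟪x, P y⟫_ℂ)
    (hQ : ∀ x y, ⟪Q x, y⟫_ℂ = -⟪x, Q y⟫_ℂ) (p q : ℝ) (hP2 : P * P = -((p : ℂ) • 1))
    (hQ2 : Q * Q = -((q : ℂ) • 1)) (t : ℝ) (v : U) (hv : v ≠ 0)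
    (h : (P * Q + Q * P) v = (t : ℂ) • v) : t ^ 2 ≤ 4 * p * q := by
  have hn : ∀ (S : Module.End ℂ U) (s : ℝ), (∀ x y, ⟪S x, y⟫_ℂ = -⟪x, S y⟫_ℂ) →
      S * S = -((s : ℂ) • 1) → ‖S v‖ ^ 2 = s * ‖v‖ ^ 2 := by
    intro S s hS hS2
    have h1 : ⟪S v, S v⟫_ℂ = (s : ℂ) * ⟪v, v⟫_ℂ := by
      rw [hS, ← Module.End.mul_apply, hS2, LinearMap.neg_apply, LinearMap.smul_apply,
        Module.End.one_apply, inner_neg_right, neg_neg, inner_smul_right]
    rw [inner_self_eq_norm_sq_to_K, inner_self_eq_norm_sq_to_K] at h1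
    exact Complex.ofReal_injective (by push_cast; exact h1)
  have h1 : ⟪v, (P * Q + Q * P) v⟫_ℂ = -(⟪P v, Q v⟫_ℂ + ⟪Q v, P v⟫_ℂ) := by
    rw [LinearMap.add_apply, inner_add_right, Module.End.mul_apply, Module.End.mul_apply, hP, hQ]
    ring
  rw [h, inner_smul_right, inner_self_eq_norm_sq_to_K, ← inner_conj_symm (Q v) (P v),
    Complex.add_conj] at h1
  have h2 : t * ‖v‖ ^ 2 = -(2 * (⟪P v, Q v⟫_ℂ).re) :=
    Complex.ofReal_injective (by push_cast; exact h1.trans (by push_cast; ring))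
  have h3 : |(⟪P v, Q v⟫_ℂ).re| ≤ ‖P v‖ * ‖Q v‖ :=
    (Complex.abs_re_le_norm _).trans (norm_inner_le_norm _ _)
  have h4 : ((⟪P v, Q v⟫_ℂ).re) ^ 2 ≤ (‖P v‖ * ‖Q v‖) ^ 2 := by
    rw [← sq_abs]
    exact pow_le_pow_left₀ (abs_nonneg _) h3 2
  rw [mul_pow, hn P p hP hP2, hn Q q hQ hQ2] at h4
  have h5 : (t * ‖v‖ ^ 2) ^ 2 ≤ 4 * p * q * (‖v‖ ^ 2) ^ 2 := by rw [h2]; nlinarith
  have hpos : 0 < (‖v‖ ^ 2) ^ 2 := by positivity
  rw [mul_pow] at h5
  exact le_of_mul_le_mul_right h5 hpos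

/-- Every primitive root gives an eigenvalue of `g + g⁻¹`. -/
theorem eigen_tc [Finite G] (g : G) (k : ℕ) (hk : k.Coprime (orderOf g)) :
    ∃ v : U, v ≠ 0 ∧ R.tc g v = ((2 * cos (2 * π * k / orderOf g) : ℝ) : ℂ) • v := by
  have hn : orderOf g ≠ 0 := (orderOf_pos g).ne'
  set ζ := Complex.exp (2 * π * Complex.I * (k / orderOf g)) with hζ
  obtain ⟨v, hv, hgv⟩ := R.eigen g ζ (Complex.isPrimitiveRoot_exp_of_coprime k _ hn hk)
  refine ⟨v, hv, ?_⟩
  have hinv : R.ρ g⁻¹ v = ζ⁻¹ • v := by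
    have := R.inv_apply_cancel g v
    rw [hgv, map_smul] at this
    rw [← this, smul_smul, inv_mul_cancel₀ (Complex.exp_ne_zero _), one_smul]
    exact this.symm ▸ rfl
  rw [tc, LinearMap.add_apply, hgv, hinv, ← add_smul]
  congr 1
  rw [Complex.ofReal_mul, Complex.ofReal_ofNat, Complex.ofReal_cos, Complex.two_cos, hζ, ← Complex.exp_neg]
  congr 2 <;> push_cast <;> ring

/-- The eigenvalues of `g + g⁻¹`. -/
theorem tc_eigen_cases [Finite G] (g : G) (t : ℂ) (v : U) (hv : v ≠ 0) (h : R.tc g v = t • v) :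
    ∃ k : ℕ, k.Coprime (orderOf g) ∧ t = ((2 * cos (2 * π * k / orderOf g) : ℝ) : ℂ) := by
  have hn : orderOf g ≠ 0 := (orderOf_pos g).ne'
  obtain ⟨s, hs⟩ := IsAlgClosed.exists_eq_mul_self (t ^ 2 - 4)
  have hlm : ∀ l : ℂ, ∀ w : U, w ≠ 0 → R.ρ g w = l • w → IsPrimitiveRoot l (orderOf g) := by
    intro l w hw hgw
    have hpow : ∀ j : ℕ, R.ρ (g ^ j) w = l ^ j • w := by
      intro j
      induction j with
      | zero => simp
      | succ j ih => rw [pow_succ, map_mul, Module.End.mul_apply, hgw, map_smul, ih, smul_smul, pow_succ']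
    refine ⟨?_, fun j hj => ?_⟩
    · have := hpow (orderOf g)
      rw [pow_orderOf_eq_one, map_one, Module.End.one_apply] at this
      exact (smul_left_injective ℂ hw (show (1 : ℂ) • w = l ^ orderOf g • w by rw [one_smul]; exact this)).symm
    · exact orderOf_dvd_of_pow_eq_one (R.fpf _ w (by rw [hpow, hj, one_smul]) hw)
  obtain ⟨l, m, hlm', htlm, hml⟩ : ∃ l m : ℂ, l * m = 1 ∧ l + m = t ∧ (R.ρ g v - m • v = 0 ∨
      R.ρ g (R.ρ g v - m • v) = l • (R.ρ g v - m • v)) := by
    refine ⟨(t + s) / 2, (t - s) / 2, by linear_combination (1 / 4 : ℂ) * hs, by ring, Or.inr ?_⟩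
    have h1 := congrArg (R.ρ g) h
    rw [tc, LinearMap.add_apply, map_add, R.apply_inv_cancel, map_smul] at h1
    have hgg : R.ρ g (R.ρ g v) = t • R.ρ g v - v := eq_sub_of_add_eq h1
    have h4 : ((t + s) / 2) * ((t - s) / 2) = 1 := by linear_combination (1 / 4 : ℂ) * hs
    rw [map_sub, map_smul, hgg, smul_sub, smul_smul, h4, one_smul, show t = (t + s) / 2 + (t - s) / 2 by ring,
      add_smul]
    ring_nf
    abel
  obtain ⟨l', hl', ht⟩ : ∃ l', IsPrimitiveRoot l' (orderOf g) ∧ t = l' + l'⁻¹ := by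
    by_cases hw : R.ρ g v - m • v = 0
    · refine ⟨m, hlm m v hv (sub_eq_zero.mp hw), ?_⟩
      rw [← eq_inv_of_mul_eq_one_left hlm', ← htlm, add_comm]
    · refine ⟨l, hlm l _ hw (hml.resolve_left hw), ?_⟩
      rw [← eq_inv_of_mul_eq_one_right hlm', htlm]
  obtain ⟨k, -, hk, hkl⟩ := (Complex.isPrimitiveRoot_iff _ _ hn).mp hl'
  refine ⟨k, hk, ?_⟩
  rw [ht, ← hkl, Complex.ofReal_mul, Complex.ofReal_ofNat, Complex.ofReal_cos, Complex.two_cos, ← Complex.exp_neg]
  congr 2 <;> push_cast <;> ring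

theorem axis_anticomm_four (a b : G) (ha : orderOf a = 4) (hb : orderOf b = 3) :
    R.ρ a * R.axis b + R.axis b * R.ρ a = 2 * R.tc (a * b) := by
  rw [tc, mul_inv_rev, map_mul, map_mul, R.inv_of_order_four a ha, R.inv_of_order_three b hb, axis]
  noncomm_ring

theorem axis_anticomm_three (b b' : G) (hb : orderOf b = 3) (hb' : orderOf b' = 3) :
    R.axis b * R.axis b' + R.axis b' * R.axis b = 4 * R.tc (b * b') - 2 := by
  rw [tc, mul_inv_rev, map_mul, map_mul, R.inv_of_order_three b hb, R.inv_of_order_three b' hb', axis, axis,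
    show (4 : Module.End ℂ U) = 1+1+1+1 by norm_num, show (2 : Module.End ℂ U) = 1+1 by norm_num]
  noncomm_ring

end Rep

theorem three_quarters_lt_cos_sq {x : ℝ} (h0 : 0 ≤ x) (h : x < π / 6) : 3 / 4 < cos x ^ 2 := by
  have h1 : cos (π / 6) < cos x :=
    cos_lt_cos_of_nonneg_of_le_pi h0 (by linarith [pi_pos]) h
  rw [cos_pi_div_six] at h1
  have h2 : √3 * √3 = 3 := mul_self_sqrt (by norm_num)
  nlinarith [Real.sqrt_nonneg 3]

theorem half_lt_cos {x : ℝ} (h0 : 0 ≤ x) (h : x < π / 3) : 1 / 2 < cos x := by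
  have h1 := cos_lt_cos_of_nonneg_of_le_pi h0 (by linarith [pi_pos]) h
  rwa [cos_pi_div_three] at h1

/-- The orders allowed by the bound for a product of elements of order four and three. -/
theorem order_list_four_three (n : ℕ) (hn : 0 < n)
    (h : ∀ k : ℕ, k.Coprime n → cos (2 * π * k / n) ^ 2 ≤ 3 / 4) :
    n = 3 ∨ n = 4 ∨ n = 5 ∨ n = 6 ∨ n = 8 ∨ n = 10 ∨ n = 12 := by
  by_contra hne
  have hodd : ∀ k : ℕ, n = 2 * k + 1 → 7 ≤ n → False := by
    intro k hk h7
    have hcop : k.Coprime n := by rw [hk]; simp [Nat.coprime_mul_left_add_right]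
    have h1 := h k hcop
    have hx : 2 * π * k / n = π - π / n := by
      rw [hk]; push_cast; field_simp; ring
    rw [hx, cos_pi_sub, neg_sq] at h1
    have h7' : (7 : ℝ) ≤ n := by exact_mod_cast h7
    have := three_quarters_lt_cos_sq (x := π / n) (by positivity) (by
      rw [div_lt_div_iff₀ (by linarith) (by norm_num)]; nlinarith [pi_pos])
    linarith
  have h1 := h 1 (Nat.coprime_one_left n)
  by_cases h13 : 13 ≤ n
  · have h13' : (13 : ℝ) ≤ n := by exact_mod_cast h13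
    have := three_quarters_lt_cos_sq (x := 2 * π / n) (by positivity) (by
      rw [div_lt_div_iff₀ (by linarith) (by norm_num)]; nlinarith [pi_pos])
    simp only [Nat.cast_one, mul_one] at h1
    linarith
  · interval_cases n
    · norm_num at h1
    · norm_num at h1
    all_goals first | omega | exact hodd 3 rfl (by norm_num) | exact hodd 4 rfl (by norm_num) | exact hodd 5 rfl (by norm_num)

/-- The orders allowed by the bound for a product of two elements of order three. -/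
theorem order_list_three_three (n : ℕ) (hn : 0 < n)
    (h : ∀ k : ℕ, k.Coprime n → -(1 / 2) ≤ cos (2 * π * k / n)) :
    n = 1 ∨ n = 3 ∨ n = 4 ∨ n = 6 ∨ n = 10 := by
  by_contra hne
  have key : ∀ (k : ℕ) (x : ℝ), k.Coprime n → 2 * π * k / n = π - x → 0 ≤ x → x < π / 3 → False := by
    intro k x hk hx h0 h3
    have h1 := h k hk
    rw [hx, cos_pi_sub] at h1
    linarith [half_lt_cos h0 h3]
  rcases Nat.even_or_odd' n with ⟨m, hm | hm⟩
  · rcases Nat.even_or_odd' m with ⟨j, hj | hj⟩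
    · have hj2 : 2 ≤ j := by omega
      have hj' : (2 : ℝ) ≤ j := by exact_mod_cast hj2
      refine key (2 * j - 1) (π / (2 * j)) ?_ ?_ (by positivity) ?_
      · have : n = 2 * (2 * j - 1) + 2 := by omega
        rw [this, Nat.coprime_mul_right_add_right]
        rw [Nat.coprime_two_right, Nat.odd_iff]; omega
      · rw [hm, hj, Nat.cast_sub (by omega)]; push_cast; field_simp
      · rw [div_lt_div_iff₀ (by positivity) (by norm_num)]; nlinarith [pi_pos]
    · by_cases hj0 : j = 0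
      · subst hj0
        obtain rfl : n = 2 := by omega
        have h1 := h 1 (Nat.coprime_one_left 2)
        norm_num at h1
      · have hj3 : 3 ≤ j := by omega
        have hj' : (3 : ℝ) ≤ j := by exact_mod_cast hj3
        refine key (2 * j - 1) (2 * π / (2 * j + 1)) ?_ ?_ (by positivity) ?_
        · have : n = 2 * (2 * j - 1) + 4 := by omega
          rw [this, Nat.coprime_mul_right_add_right]
          rw [show (4 : ℕ) = 2 ^ 2 by norm_num]
          exact Nat.Coprime.pow_right 2 (by rw [Nat.coprime_two_right, Nat.odd_iff]; omega)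
        · rw [hm, hj, Nat.cast_sub (by omega)]; push_cast; field_simp; ring
        · rw [div_lt_div_iff₀ (by positivity) (by norm_num)]; nlinarith [pi_pos]
  · have hm2 : 2 ≤ m := by omega
    have hm' : (2 : ℝ) ≤ m := by exact_mod_cast hm2
    refine key m (π / n) ?_ ?_ (by positivity) ?_
    · rw [hm]; simp [Nat.coprime_mul_left_add_right]
    · rw [hm]; push_cast; field_simp; ring
    · rw [hm]; push_cast
      rw [div_lt_div_iff₀ (by positivity) (by norm_num)]; nlinarith [pi_pos]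

namespace Rep

variable [Finite G]

theorem order_four_three (R : Rep G U) (a b : G) (ha : orderOf a = 4) (hb : orderOf b = 3) :
    orderOf (a * b) ∈ ({3, 4, 5, 6, 8, 10, 12} : Finset ℕ) := by
  have := order_list_four_three (orderOf (a * b)) (orderOf_pos _) fun k hk => by
    obtain ⟨v, hv, htv⟩ := R.eigen_tc (a * b) k hk
    set t := 2 * cos (2 * π * k / orderOf (a * b)) with ht
    have h1 : (R.ρ a * R.axis b + R.axis b * R.ρ a) v = ((2 * t : ℝ) : ℂ) • v := by
      rw [R.axis_anticomm_four a b ha hb, two_mul (R.tc _), LinearMap.add_apply, htv, ← add_smul]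
      push_cast; ring_nf
    have := anticomm_bound (R.ρ a) (R.axis b) (R.four_skew a ha) (R.axis_skew b hb) 1 3
      (by rw [R.sq_of_order_four a ha]; simp)
      (by rw [R.axis_sq b hb, show ((3 : ℝ) : ℂ) = ((3 : ℕ) : ℂ) by norm_num, Nat.cast_smul_eq_nsmul]; simp) _ v hv h1
    rw [ht] at this
    nlinarith
  simpa using this

theorem order_three_three (R : Rep G U) (b b' : G) (hb : orderOf b = 3) (hb' : orderOf b' = 3) :
    orderOf (b * b') ∈ ({1, 3, 4, 6, 10} : Finset ℕ) := by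
  have := order_list_three_three (orderOf (b * b')) (orderOf_pos _) fun k hk => by
    obtain ⟨v, hv, htv⟩ := R.eigen_tc (b * b') k hk
    set t := 2 * cos (2 * π * k / orderOf (b * b')) with ht
    have h1 : (R.axis b * R.axis b' + R.axis b' * R.axis b) v = ((4 * t - 2 : ℝ) : ℂ) • v := by
      rw [R.axis_anticomm_three b b' hb hb', LinearMap.sub_apply, Module.End.mul_apply]
      rw [htv, map_smul, show (4 : Module.End ℂ U) = ((4 : ℕ) : Module.End ℂ U) from rfl,
        show (2 : Module.End ℂ U) = ((2 : ℕ) : Module.End ℂ U) from rfl,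
        Module.End.natCast_apply, Module.End.natCast_apply, ← Nat.cast_smul_eq_nsmul ℂ 4 v,
        ← Nat.cast_smul_eq_nsmul ℂ 2 v, smul_smul, ← sub_smul]
      push_cast; ring_nf
    have := anticomm_bound (R.axis b) (R.axis b') (R.axis_skew b hb) (R.axis_skew b' hb') 3 3
      (by rw [R.axis_sq b hb, show ((3 : ℝ) : ℂ) = ((3 : ℕ) : ℂ) by norm_num, Nat.cast_smul_eq_nsmul]; simp)
      (by rw [R.axis_sq b' hb', show ((3 : ℝ) : ℂ) = ((3 : ℕ) : ℂ) by norm_num, Nat.cast_smul_eq_nsmul]; simp) _ v hv h1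
    rw [ht] at this
    nlinarith
  simpa using this

end Rep

end H58.Zass
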