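import Cfsg.Agent.H58.Zass.Partner

/-!
Pairs of elements of order three.
-/

set_option autoImplicit false

namespace H58.Zass

section Ring

variable {E : Type*} [Ring E] {u w a : E}

/-- Four times the conjugate of `u` by `(-1 + w) / 2`, anticommuted with `u`. -/
theorem conj_anticomm (hu : u * u = -(1 + 1 + 1)) (hw : w * w = -(1 + 1 + 1)) (hwu : w * u = a - u * w)
    (hua : Commute u a) (hwa : Commute w a) :
    u * ((w - 1) * (u * (-1 - w))) + ((w - 1) * (u * (-1 - w))) * u =
      (1+1+1+1+1+1+1+1+1+1+1+1) - a * a := by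
  have e1 : ∀ z, u * (u * z) = -(z + z + z) := fun z => by
    rw [← mul_assoc, hu]; simp [add_mul, add_comm, add_left_comm]
  have e2 : ∀ z, w * (w * z) = -(z + z + z) := fun z => by
    rw [← mul_assoc, hw]; simp [add_mul, add_comm, add_left_comm]
  have e3 : ∀ z, w * (u * z) = a * z - u * (w * z) := fun z => by
    rw [← mul_assoc, hwu, sub_mul, mul_assoc]
  have e4 : ∀ z, u * (a * z) = a * (u * z) := fun z => by rw [← mul_assoc, hua.eq, mul_assoc]
  have e5 : ∀ z, w * (a * z) = a * (w * z) := fun z => by rw [← mul_assoc, hwa.eq, mul_assoc]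
  simp only [mul_sub, sub_mul, mul_add, add_mul, mul_neg, neg_mul, mul_one, one_mul, mul_assoc, hu, hw,
    hwu, hua.eq, hwa.eq, e1, e2, e3, e4, e5]
  abel

/-- The same one step further, when the anticommutator squares to twenty. -/
theorem conj_conj_anticomm (hu : u * u = -(1 + 1 + 1)) (hw : w * w = -(1 + 1 + 1))
    (hwu : w * u = a - u * w) (hua : Commute u a) (hwa : Commute w a)
    (ha : a * a = 1+1+1+1+1+1+1+1+1+1+1+1+1+1+1+1+1+1+1+1) :
    ((u - 1) * (((w - 1) * (u * (-1 - w))) * (-1 - u))) * w +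
      w * ((u - 1) * (((w - 1) * (u * (-1 - w))) * (-1 - u))) =
      -(1+1+1+1+1+1+1+1+1+1+1+1+1+1+1+1+1+1+1+1+1+1+1+1+1+1+1+1+1+1+1+1) := by
  have e1 : ∀ z, u * (u * z) = -(z + z + z) := fun z => by
    rw [← mul_assoc, hu]; simp [add_mul, add_comm, add_left_comm]
  have e2 : ∀ z, w * (w * z) = -(z + z + z) := fun z => by
    rw [← mul_assoc, hw]; simp [add_mul, add_comm, add_left_comm]
  have e3 : ∀ z, w * (u * z) = a * z - u * (w * z) := fun z => by
    rw [← mul_assoc, hwu, sub_mul, mul_assoc]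
  have e4 : ∀ z, u * (a * z) = a * (u * z) := fun z => by rw [← mul_assoc, hua.eq, mul_assoc]
  have e5 : ∀ z, w * (a * z) = a * (w * z) := fun z => by rw [← mul_assoc, hwa.eq, mul_assoc]
  have e6 : ∀ z, a * (a * z) = (1+1+1+1+1+1+1+1+1+1+1+1+1+1+1+1+1+1+1+1) * z := fun z => by
    rw [← mul_assoc, ha]
  simp only [mul_sub, sub_mul, mul_add, add_mul, mul_neg, neg_mul, mul_one, one_mul, mul_assoc, hu, hw,
    hwu, hua.eq, hwa.eq, ha, e1, e2, e3, e4, e5, e6]
  abel

end Ring

namespace Rep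

variable {G : Type*} [Group G] [Finite G] {U : Type*} [NormedAddCommGroup U] [InnerProductSpace ℂ U]
  (R : Rep G U)

omit [Finite G] in
theorem four_cancel (x : Module.End ℂ U) (h : (4 : ℂ) • x = 0) : x = 0 :=
  (smul_eq_zero.mp h).resolve_left (by norm_num)

omit [Finite G] in
theorem axis_mul (g h : G) : Commute (R.ρ g) (R.tc g) ∧ R.tc (h * g * h⁻¹) = R.ρ h * R.tc g * R.ρ h⁻¹ := by
  constructor
  · show R.ρ g * R.tc g = R.tc g * R.ρ g
    rw [tc, mul_add, add_mul, ← map_mul, ← map_mul, ← map_mul, mul_inv_cancel, inv_mul_cancel]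
  · rw [tc, tc, mul_inv_rev, mul_inv_rev, inv_inv, mul_add, add_mul, ← map_mul, ← map_mul, ← map_mul,
      ← map_mul]
    simp only [mul_assoc]

theorem tc_comm {b y : G} (hb : orderOf b = 3) (hy : orderOf y = 3) :
    Commute (R.axis b) (R.axis b * R.axis y + R.axis y * R.axis b) ∧
      Commute (R.axis y) (R.axis b * R.axis y + R.axis y * R.axis b) := by
  have h : ∀ u v : Module.End ℂ U, u * u = -3 → Commute u (u * v + v * u) := fun u v hu => by
    show u * (u * v + v * u) = (u * v + v * u) * u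
    rw [mul_add, add_mul, ← mul_assoc, hu, mul_assoc v u u, hu, mul_assoc u v u]
    simp only [neg_mul, mul_neg]
    rw [show (3 : Module.End ℂ U) = 1 + 1 + 1 by norm_num]
    simp only [add_mul, mul_add, one_mul, mul_one]
    abel
  refine ⟨h _ _ (R.axis_sq b hb), ?_⟩
  rw [add_comm]
  exact h _ _ (R.axis_sq y hy)

theorem order_cases (R : Rep G U) {b y : G} (hb : orderOf b = 3) (hy : orderOf y = 3) :
    y = b ∨ y = b⁻¹ ∨ orderOf (b * y) = 4 ∨ orderOf (b * y) = 6 ∨ orderOf (b * y) = 10 := by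
  have := R.order_three_three b y hb hy
  simp only [Finset.mem_insert, Finset.mem_singleton] at this
  rcases this with h | h | h | h | h
  · exact Or.inr (Or.inl (eq_inv_of_mul_eq_one_right (orderOf_eq_one_iff.mp h)))
  · refine Or.inl (R.faithful ?_)
    have h1 := R.axis_anticomm_three b y hb hy
    rw [R.tc_of_order_three _ h] at h1
    have h2 : R.axis b - R.axis y = 0 := by
      refine skew_sq_zero _ (fun u w => ?_) ?_
      · simp only [LinearMap.sub_apply, inner_sub_left, inner_sub_right, R.axis_skew b hb, R.axis_skew y hy]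
        ring
      · simp only [sub_mul, mul_sub, R.axis_sq b hb, R.axis_sq y hy]
        calc -3 - R.axis y * R.axis b - (R.axis b * R.axis y - -3)
            = -3 + -3 - (R.axis b * R.axis y + R.axis y * R.axis b) := by abel
          _ = 0 := by rw [h1]; norm_num
    rw [axis, axis, sub_eq_zero, add_left_inj, two_mul, two_mul] at h2
    exact (sub_two_cancel _ _ h2).symm
  · exact Or.inr (Or.inr (Or.inl h))
  · exact Or.inr (Or.inr (Or.inr (Or.inl h)))
  · exact Or.inr (Or.inr (Or.inr (Or.inr h)))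

theorem order_four_of_tc_zero (g : G) (h : R.tc g = 0) : orderOf g = 4 := by
  haveI : Fact (Nat.Prime 2) := ⟨Nat.prime_two⟩
  have h1 : R.ρ g * R.ρ g = -1 := by
    have := congrArg (R.ρ g * ·) h
    rw [tc, mul_add, ← map_mul (R.ρ) g g⁻¹, mul_inv_cancel, map_one, mul_zero] at this
    exact eq_neg_of_add_eq_zero_left this
  have hne : (1 : Module.End ℂ U) ≠ -1 := by
    intro e
    obtain ⟨v, hv⟩ := R.nonzero
    have e1 : (2 : ℂ) • (1 : Module.End ℂ U) = 0 := by
      rw [two_smul]; nth_rewrite 1 [e]; exact neg_add_cancel 1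
    exact hv (by simpa using LinearMap.congr_fun e1 v)
  refine orderOf_eq_prime_pow (p := 2) (n := 1) ?_ ?_
  · intro e
    have h2 := congrArg R.ρ e
    rw [pow_one, pow_two, map_mul, h1, map_one] at h2
    exact hne h2.symm
  · refine R.faithful ?_
    rw [show 2 ^ (1 + 1) = 2 + 2 by norm_num, pow_add, pow_two, map_mul, map_mul, h1, map_one]
    simp

theorem anticomm_of_six (R : Rep G U) {b y : G} (hb : orderOf b = 3) (hy : orderOf y = 3)
    (h : orderOf (b * y) = 6) : orderOf (b * y⁻¹) = 4 := by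
  refine R.order_four_of_tc_zero _ (four_cancel _ ?_)
  have h1 := R.axis_anticomm_three b y⁻¹ hb (by rw [orderOf_inv, hy])
  have h2 := R.axis_anticomm_three b y hb hy
  have hneg : R.axis y⁻¹ = -R.axis y := by
    rw [axis, axis, R.inv_of_order_three y hy, show (2 : Module.End ℂ U) = 1 + 1 by norm_num]
    noncomm_ring
  rw [hneg, mul_neg, neg_mul, ← neg_add, h2, R.tc_of_order_six _ h] at h1
  have h4 : (4 : ℂ) • R.tc (b * y⁻¹) = 4 * R.tc (b * y⁻¹) := by
    rw [show (4 : ℂ) = ((4 : ℕ) : ℂ) by norm_num, Nat.cast_smul_eq_nsmul, nsmul_eq_mul]; rfl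
  rw [h4, eq_add_of_sub_eq h1.symm]
  norm_num

theorem axis_conj (g x : G) : R.axis (g * x * g⁻¹) = R.ρ g * R.axis x * R.ρ g⁻¹ := by
  rw [axis, axis, map_mul, map_mul, two_mul, two_mul, mul_add, add_mul, mul_add, add_mul, mul_one,
    ← map_mul (R.ρ) g g⁻¹, mul_inv_cancel, map_one]

theorem two_rho (b : G) (hb : orderOf b = 3) :
    (2 : ℂ) • R.ρ b = R.axis b - 1 ∧ (2 : ℂ) • R.ρ b⁻¹ = -1 - R.axis b := by
  rw [R.inv_of_order_three b hb, axis, two_mul, smul_sub, smul_neg, two_smul, two_smul]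
  constructor <;> abel

theorem sq_anticomm_ten {b y : G} (hb : orderOf b = 3) (hy : orderOf y = 3)
    (h : orderOf (b * y) = 10) :
    (R.axis b * R.axis y + R.axis y * R.axis b) * (R.axis b * R.axis y + R.axis y * R.axis b) =
      1+1+1+1+1+1+1+1+1+1+1+1+1+1+1+1+1+1+1+1 := by
  obtain ⟨g, hg⟩ : ∃ g, g = b * y := ⟨_, rfl⟩
  rw [← hg] at h
  have h6 : orderOf (g ^ 6) = 5 := by rw [orderOf_pow, h]; rfl
  have hz : R.ρ (g ^ 5) = -1 := R.invol_eq _ (by
    rw [orderOf_pow_of_dvd (by norm_num) (by rw [h]; norm_num), h])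
  have hzi : R.ρ (g ^ 5)⁻¹ = -1 := R.invol_eq _ (by
    rw [orderOf_inv, orderOf_pow_of_dvd (by norm_num) (by rw [h]; norm_num), h])
  have hneg : R.tc (g ^ 6) = -R.tc g := by
    rw [tc, tc, pow_succ (a := g) 5, mul_inv_rev, map_mul, map_mul, hz, hzi, neg_one_mul, mul_neg,
      mul_one]
    abel
  have h5 := R.tc_order_five _ h6
  rw [hneg, neg_mul_neg, ← sub_eq_add_neg, sub_eq_iff_eq_add] at h5
  rw [R.axis_anticomm_three b y hb hy, ← hg]
  calc (4 * R.tc g - 2) * (4 * R.tc g - 2)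
      = (4 * 4) * (R.tc g * R.tc g) - (4 * 4) * R.tc g + 2 * 2 := by noncomm_ring
    _ = _ := by rw [h5]; simp only [mul_add, mul_one]; norm_num

/-- A pair with product of order ten gives a common neighbour. -/
theorem conj_neighbour {b y : G} (hb : orderOf b = 3) (hy : orderOf y = 3)
    (ha : (R.axis b * R.axis y + R.axis y * R.axis b) * (R.axis b * R.axis y + R.axis y * R.axis b) =
      1+1+1+1+1+1+1+1+1+1+1+1+1+1+1+1+1+1+1+1) :
    orderOf (b * (y * b * y⁻¹)) = 4 ∧ orderOf (b * (y * b * y⁻¹) * b⁻¹ * y) = 4 := by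
  obtain ⟨hua, hwa⟩ := R.tc_comm hb hy
  set u := R.axis b with hu
  set w := R.axis y with hw
  set a := u * w + w * u with hadef
  have hu2 : u * u = -(1 + 1 + 1) := by rw [hu, R.axis_sq b hb]; norm_num
  have hw2 : w * w = -(1 + 1 + 1) := by rw [hw, R.axis_sq y hy]; norm_num
  have hwu : w * u = a - u * w := by rw [hadef]; abel
  obtain ⟨hy1, hy2⟩ := R.two_rho y hy
  obtain ⟨hb1, hb2⟩ := R.two_rho b hb
  have hm : ∀ (n : ℕ) (z : Module.End ℂ U), (n : ℂ) • z = (n : Module.End ℂ U) * z := fun n z => by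
    rw [Nat.cast_smul_eq_nsmul, nsmul_eq_mul]
  have hX : (4 : ℂ) • R.axis (y * b * y⁻¹) = (w - 1) * (u * (-1 - w)) := by
    rw [R.axis_conj, ← hu, ← hy1, ← hy2, smul_mul_assoc, mul_smul_comm, mul_smul_comm, smul_smul,
      mul_assoc]
    norm_num
  have hR : orderOf (y * b * y⁻¹) = 3 := (orderOf_conj' y b).trans hb
  constructor
  · refine R.order_four_of_tc_zero _ (four_cancel _ ?_)
    have h := R.axis_anticomm_three b (y * b * y⁻¹) hb hR
    rw [← hu] at h
    have h2 : (4 : ℂ) • (u * R.axis (y * b * y⁻¹) + R.axis (y * b * y⁻¹) * u) =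
        (1+1+1+1+1+1+1+1+1+1+1+1) - a * a := by
      rw [smul_add, ← mul_smul_comm, ← smul_mul_assoc, hX]
      exact conj_anticomm hu2 hw2 hwu hua hwa
    rw [h, ha] at h2
    refine four_cancel _ ?_
    simp only [show (4 : ℂ) = ((4 : ℕ) : ℂ) by norm_num, hm] at h2 ⊢
    push_cast at h2 ⊢
    rw [mul_sub] at h2
    rw [eq_add_of_sub_eq h2]
    norm_num
  · rw [show b * (y * b * y⁻¹) * b⁻¹ * y = b * (y * b * y⁻¹) * b⁻¹ * y from rfl]
    have hT : orderOf (b * (y * b * y⁻¹) * b⁻¹) = 3 := (orderOf_conj' b _).trans hR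
    refine R.order_four_of_tc_zero _ (four_cancel _ ?_)
    have h := R.axis_anticomm_three _ y hT hy
    rw [← hw] at h
    have hX2 : (16 : ℂ) • R.axis (b * (y * b * y⁻¹) * b⁻¹) =
        (u - 1) * (((w - 1) * (u * (-1 - w))) * (-1 - u)) := by
      rw [R.axis_conj, ← hX, ← hb1, ← hb2]
      simp only [smul_mul_assoc, mul_smul_comm, smul_smul, mul_assoc]
      norm_num
    have h2 := conj_conj_anticomm hu2 hw2 hwu hua hwa ha
    rw [← hX2, smul_mul_assoc, mul_smul_comm, ← smul_add, h] at h2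
    refine four_cancel _ (four_cancel _ ?_)
    rw [show (16 : ℂ) = 4 * 4 by norm_num, ← smul_smul] at h2
    simp only [show (4 : ℂ) = ((4 : ℕ) : ℂ) by norm_num, hm] at h2 ⊢
    push_cast at h2 ⊢
    rw [mul_sub, mul_sub] at h2
    rw [eq_add_of_sub_eq h2]
    norm_num

theorem sq_anticomm_inv {b y : G} (hb : orderOf b = 3)
    (ha : (R.axis b * R.axis y + R.axis y * R.axis b) * (R.axis b * R.axis y + R.axis y * R.axis b) =
      1+1+1+1+1+1+1+1+1+1+1+1+1+1+1+1+1+1+1+1) :
    (R.axis b⁻¹ * R.axis y + R.axis y * R.axis b⁻¹) * (R.axis b⁻¹ * R.axis y + R.axis y * R.axis b⁻¹) =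
      1+1+1+1+1+1+1+1+1+1+1+1+1+1+1+1+1+1+1+1 := by
  have hneg : R.axis b⁻¹ = -R.axis b := by
    rw [axis, axis, R.inv_of_order_three b hb, show (2 : Module.End ℂ U) = 1 + 1 by norm_num]
    noncomm_ring
  rw [hneg, neg_mul, mul_neg, ← neg_add, neg_mul_neg, ha]

theorem six_of_four (R : Rep G U) {b y : G} (hb : orderOf b = 3) (hy : orderOf y = 3) (h : orderOf (b * y) = 4) :
    orderOf (b * y⁻¹) = 6 := by
  have hy' : orderOf y⁻¹ = 3 := by rw [orderOf_inv, hy]
  have h1 := R.axis_anticomm_three b y⁻¹ hb hy'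
  have h2 := R.axis_anticomm_three b y hb hy
  have hneg : R.axis y⁻¹ = -R.axis y := by
    rw [axis, axis, R.inv_of_order_three y hy, show (2 : Module.End ℂ U) = 1 + 1 by norm_num]
    noncomm_ring
  rw [hneg, mul_neg, neg_mul, ← neg_add, h2, R.tc_of_order_four _ h] at h1
  have hone : R.tc (b * y⁻¹) = 1 := by
    have h3 : (4 : ℂ) • (R.tc (b * y⁻¹) - 1) = 0 := by
      rw [show (4 : ℂ) = ((4 : ℕ) : ℂ) by norm_num, Nat.cast_smul_eq_nsmul, nsmul_eq_mul]
      push_cast
      rw [mul_sub, eq_add_of_sub_eq h1.symm]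
      norm_num
    exact sub_eq_zero.mp (four_cancel _ h3)
  obtain ⟨v, hv⟩ := R.nonzero
  have := R.order_three_three b y⁻¹ hb hy'
  simp only [Finset.mem_insert, Finset.mem_singleton] at this
  rcases this with e | e | e | e | e
  · exfalso
    have := hone
    rw [tc, orderOf_eq_one_iff.mp e, inv_one, map_one] at this
    have := LinearMap.congr_fun this v
    simp at this
    exact hv this
  · exfalso
    have := R.tc_of_order_three _ e
    rw [hone] at this
    have h' := LinearMap.congr_fun this v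
    simp only [Module.End.one_apply, LinearMap.neg_apply, eq_neg_iff_add_eq_zero, ← two_smul ℂ v] at h'
    exact hv ((smul_eq_zero.mp h').resolve_left two_ne_zero)
  · exfalso
    have := R.tc_of_order_four _ e
    rw [hone] at this
    exact hv (by simpa using LinearMap.congr_fun this v)
  · exact e
  · exfalso
    have h10 := R.sq_anticomm_ten hb hy' e
    rw [R.axis_anticomm_three b y⁻¹ hb hy', hone] at h10
    have h' := LinearMap.congr_fun h10 v
    norm_num at h'
    have h'' : (16 : ℂ) • v = 0 := by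
      rw [show (16 : ℂ) = ((16 : ℕ) : ℂ) by norm_num, Nat.cast_smul_eq_nsmul]
      rw [← sub_eq_zero] at h'
      rw [← neg_eq_zero, ← h']
      abel
    exact hv ((smul_eq_zero.mp h'').resolve_left (by norm_num))

end Rep

end H58.Zass
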