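import Cfsg.Agent.H58.Zass.Frames

/-!
At most two tetrahedral frames at an element of order three.
-/

set_option autoImplicit false

namespace H58.Zass

open scoped InnerProductSpace ComplexConjugate
open Real

section Ring

variable {E : Type*} [Ring E] {I J K : E}

/-- The product of two elements in normal form. -/
theorem Quat.product (h : Quat I J K) (s t : E) (hsI : Commute s I) (hsJ : Commute s J)
    (hsK : Commute s K) :
    (I * (1 + 1) + J * (1 + s) + K * (1 - s)) * (I * (1 + 1) + J * (1 + t) + K * (1 - t)) =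
      -(1 + 1 + 1 + 1 + 1 + 1 + (s * t + s * t)) + ((I - J - K) * (s - t) + (I - J - K) * (s - t)) := by
  have e1 : ∀ z, s * (I * z) = I * (s * z) := fun z => by rw [← mul_assoc, hsI.eq, mul_assoc]
  have e2 : ∀ z, s * (J * z) = J * (s * z) := fun z => by rw [← mul_assoc, hsJ.eq, mul_assoc]
  have e3 : ∀ z, s * (K * z) = K * (s * z) := fun z => by rw [← mul_assoc, hsK.eq, mul_assoc]
  simp only [mul_assoc, mul_add, add_mul, mul_sub, sub_mul, mul_neg, neg_mul, mul_one, one_mul,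
    hsI.eq, hsJ.eq, hsK.eq, e1, e2, e3, h.ii, h.jj, h.kk, h.ij, h.jk, h.ki, h.ji, h.kj, h.ik, h.ii',
    h.ij', h.ji', h.rot.ii', h.rot.ij', h.rot.ji', h.rot.rot.ii', h.rot.rot.ij', h.rot.rot.ji']
  abel

theorem Quat.comm_axis (h : Quat I J K) (Y : E) :
    I * ((I - J - K) * Y) - (I - J - K) * (I * Y) = (J - K) * (Y + Y) := by
  simp only [mul_sub, sub_mul, mul_add, h.ii', h.ij', h.ji', h.rot.rot.ij', h.rot.rot.ji', ← mul_assoc]
  simp only [mul_assoc, h.ii', h.ij', h.ji', h.rot.rot.ij', h.rot.rot.ji']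
  abel

theorem Quat.diff_sq (h : Quat I J K) : (J - K) * (J - K) = -(1 + 1) := by
  simp only [mul_sub, sub_mul, h.jj, h.kk, h.jk, h.kj]
  abel

end Ring

namespace Rep

variable {G : Type*} [Group G] [Finite G] {U : Type*} [NormedAddCommGroup U] [InnerProductSpace ℂ U]
  (R : Rep G U)

include R in
omit [Finite G] in
theorem end_four_ne_zero : ((4 : ℂ) • (1 : Module.End ℂ U)) ≠ 0 := by
  intro e
  obtain ⟨v, hv⟩ := R.nonzero
  have := LinearMap.congr_fun e v
  simp [hv] at this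

theorem order_three_of_tc_neg_one (g : G) (v : U) (hv : v ≠ 0) (h : R.tc g v = -v) : orderOf g = 3 := by
  have h1 := congrArg (R.ρ g) h
  rw [tc, LinearMap.add_apply, map_add, R.apply_inv_cancel, map_neg] at h1
  have hgg : R.ρ g (R.ρ g v) = -R.ρ g v - v := eq_sub_of_add_eq h1
  have h3 : R.ρ (g ^ 3) v = v := by
    rw [pow_succ, pow_two, map_mul, map_mul, Module.End.mul_apply, Module.End.mul_apply, hgg, map_sub,
      map_neg, hgg]
    abel
  have hpow := R.fpf _ v h3 hv
  haveI : Fact (Nat.Prime 3) := ⟨Nat.prime_three⟩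
  refine orderOf_eq_prime hpow fun e => ?_
  subst e
  rw [tc, inv_one, map_one, LinearMap.add_apply, Module.End.one_apply, ← two_smul ℂ v] at h
  have h4 : (2 : ℂ) • v + v = 0 := by rw [h, neg_add_cancel]
  rw [show (2 : ℂ) • v + v = (3 : ℂ) • v by
    rw [show (3 : ℂ) = 2 + 1 by norm_num, add_smul, one_smul]] at h4
  exact hv ((smul_eq_zero.mp h4).resolve_left (by norm_num))

theorem anticomm_conj (g x p : G) (h : R.ρ x * R.ρ p + R.ρ p * R.ρ x = -1) :
    R.ρ (g⁻¹ * x * g) * R.ρ (g⁻¹ * p * g) + R.ρ (g⁻¹ * p * g) * R.ρ (g⁻¹ * x * g) = -1 := by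
  rw [← map_mul, ← map_mul, show g⁻¹ * x * g * (g⁻¹ * p * g) = g⁻¹ * (x * p) * g by group,
    show g⁻¹ * p * g * (g⁻¹ * x * g) = g⁻¹ * (p * x) * g by group]
  simp only [map_mul]
  rw [← add_mul, ← mul_add, h, mul_neg, mul_one, neg_mul, ← map_mul, inv_mul_cancel, map_one]

/-- The data of a frame with trace zero against `i`. -/
theorem normal_form {b i p : G} (hb : orderOf b = 3) (hi : IsFrame b i) (hp : IsFrame b p)
    (hn : R.ρ i * R.ρ p + R.ρ p * R.ρ i = -1) :
    ∃ s : Module.End ℂ U, Commute s (R.ρ i) ∧ Commute s (R.ρ (b * i * b⁻¹)) ∧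
      Commute s (R.ρ (b⁻¹ * i * b)) ∧ s * s = (5 : ℂ) • 1 ∧
      (∀ x y, ⟪s x, y⟫_ℂ = ⟪x, s y⟫_ℂ) ∧
      (4 : ℂ) • R.ρ p = R.ρ i * (1 + 1) + R.ρ (b * i * b⁻¹) * (1 + s) +
        R.ρ (b⁻¹ * i * b) * (1 - s) ∧
      R.ρ (b * i * b⁻¹) * R.ρ p + R.ρ p * R.ρ (b * i * b⁻¹) ≠ -1 ∧
      R.ρ (b⁻¹ * i * b) * R.ρ p + R.ρ p * R.ρ (b⁻¹ * i * b) ≠ -1 := by
  obtain ⟨hsum, -, hsq, ⟨cI, cJ, cK⟩, hexp⟩ := (R.quat hb hi).coefficients two_cancel (R.ρ p)
    (R.sq_of_order_four p hp.1) (R.coeffs hb hi hp)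
  rw [hn] at hsum hsq hexp
  set I := R.ρ i with hI
  set J := R.ρ (b * i * b⁻¹) with hJ
  set K := R.ρ (b⁻¹ * i * b) with hK
  set β := J * R.ρ p + R.ρ p * J with hβ
  set γ := K * R.ρ p + R.ρ p * K with hγ
  have hγe : γ = -1 - β := by
    rw [← sub_eq_zero]
    calc γ - (-1 - β) = (-1 + β + γ) + 2 := by rw [← one_add_one_eq_two]; abel
      _ = 0 := by rw [hsum, neg_add_cancel]
  set s := -(β + β) - 1 with hs
  have hcs : ∀ X, Commute β X → Commute s X := fun X h =>
    ((h.add_left h).neg_left).sub_left (Commute.one_left _)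
  have hs5 : s * s = (5 : ℂ) • 1 := by
    have h5 : (5 : ℂ) • (1 : Module.End ℂ U) = 5 := by
      rw [show (5 : ℂ) = ((5 : ℕ) : ℂ) by norm_num, Nat.cast_smul_eq_nsmul]; simp
    rw [h5]
    rw [hγe] at hsq
    calc s * s = 2 * (-1 * -1 + β * β + (-1 - β) * (-1 - β)) - 3 := by
          rw [hs, show (2 : Module.End ℂ U) = 1 + 1 by norm_num, show (3 : Module.End ℂ U) = 1 + 1 + 1 by norm_num]
          noncomm_ring
      _ = 5 := by rw [hsq]; norm_num
  refine ⟨s, hcs _ cI, hcs _ cJ, hcs _ cK, hs5, fun x y => ?_, ?_, fun e => ?_, fun e => ?_⟩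
  · simp only [hs, hβ, hJ, LinearMap.sub_apply, LinearMap.neg_apply, LinearMap.add_apply,
      Module.End.mul_apply, Module.End.one_apply, inner_sub_left, inner_sub_right, inner_neg_left,
      inner_neg_right, inner_add_left, inner_add_right, R.four_skew p hp.1,
      R.four_skew _ ((orderOf_conj' b i).trans hi.1), neg_neg]
    ring
  · rw [show (4 : ℂ) • R.ρ p = -((-(R.ρ p + R.ρ p)) + (-(R.ρ p + R.ρ p))) by
      rw [show (4 : ℂ) = 1 + 1 + 1 + 1 by norm_num]; simp only [add_smul, one_smul]; abel, ← hexp, hγe]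
    rw [hs]
    simp only [mul_add, mul_sub, mul_neg, mul_one, neg_add_rev, neg_neg]
    abel
  · rw [← hβ] at *
    have h1 : s * s = 1 := by rw [hs, e, show -((-1 : Module.End ℂ U) + -1) - 1 = 1 by abel, mul_one]
    rw [h1] at hs5
    refine R.end_four_ne_zero ?_
    rw [show (4 : ℂ) = 5 - 1 by norm_num, sub_smul, ← hs5, one_smul, sub_self]
  · rw [hγe] at e
    have hβ0 : β = 0 := by
      have := congrArg (fun X : Module.End ℂ U => -1 - X) e
      simpa using this
    have h1 : s * s = 1 := by rw [hs, hβ0]; simp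
    rw [h1] at hs5
    refine R.end_four_ne_zero ?_
    rw [show (4 : ℂ) = 5 - 1 by norm_num, sub_smul, ← hs5, one_smul, sub_self]

variable [FiniteDimensional ℂ U]

/-- Two frames with trace zero against `i` coincide. -/
theorem partner_unique {b i p q : G} (hb : orderOf b = 3) (hi : IsFrame b i) (hp : IsFrame b p)
    (hq : IsFrame b q) (hnp : R.ρ i * R.ρ p + R.ρ p * R.ρ i = -1)
    (hnq : R.ρ i * R.ρ q + R.ρ q * R.ρ i = -1) : p = q := by
  obtain ⟨s, hsI, hsJ, hsK, hs5, hsym, hP, hpJ, hpK⟩ := R.normal_form hb hi hp hnp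
  obtain ⟨t, htI, htJ, htK, ht5, htym, hQ, hqJ, hqK⟩ := R.normal_form hb hi hq hnq
  have hquat := R.quat hb hi
  set V := R.ρ i - R.ρ (b * i * b⁻¹) - R.ρ (b⁻¹ * i * b) with hV
  have hPQ : (16 : ℂ) • (R.ρ p * R.ρ q) = -(1 + 1 + 1 + 1 + 1 + 1 + (s * t + s * t)) +
      (V * (s - t) + V * (s - t)) := by
    rw [← hquat.product s t hsI hsJ hsK, ← hP, ← hQ, smul_mul_smul_comm]; norm_num
  have hQP : (16 : ℂ) • (R.ρ q * R.ρ p) = -(1 + 1 + 1 + 1 + 1 + 1 + (t * s + t * s)) +
      (V * (t - s) + V * (t - s)) := by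
    rw [← hquat.product t s htI htJ htK, ← hP, ← hQ, smul_mul_smul_comm]; norm_num
  have hA : (8 : ℂ) • R.tc (p * (q * b⁻¹ * q⁻¹)) = (2 : ℂ) • 1 - (s * t + t * s) := by
    have h16 : (16 : ℂ) • (R.ρ p * R.ρ q + R.ρ q * R.ρ p) =
        (2 : ℂ) • ((2 : ℂ) • (1 : Module.End ℂ U) - (s * t + t * s)) - (16 : ℂ) • 1 := by
      rw [smul_add, hPQ, hQP, mul_sub, mul_sub,
        show (16 : ℂ) = 1+1+1+1+1+1+1+1+1+1+1+1+1+1+1+1 by norm_num,
        show (2 : ℂ) = 1 + 1 by norm_num]
      simp only [add_smul, one_smul]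
      abel
    rw [R.tc_cross hb hp hq]
    refine (smul_right_inj (two_ne_zero (α := ℂ))).mp ?_
    rw [smul_smul, show (2 : ℂ) * 8 = 16 by norm_num, smul_add, h16]
    abel
  have hy : orderOf (q * b⁻¹ * q⁻¹) = 3 := by rw [orderOf_conj', orderOf_inv, hb]
  set g₀ := p * (q * b⁻¹ * q⁻¹) with hg₀
  have hskew : ∀ u : Module.End ℂ U, (∀ x y, ⟪u x, y⟫_ℂ = ⟪x, u y⟫_ℂ) →
      ∀ x y, ⟪(Complex.I • u) x, y⟫_ℂ = -⟪x, (Complex.I • u) y⟫_ℂ := by
    intro u hu x y
    simp only [LinearMap.smul_apply, inner_smul_left, inner_smul_right, hu, Complex.conj_I]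
    ring
  have hrange : ∀ k : ℕ, k.Coprime (orderOf g₀) →
      -1 ≤ 2 * cos (2 * π * k / orderOf g₀) ∧ 2 * cos (2 * π * k / orderOf g₀) ≤ 3 / 2 := by
    intro k hk
    obtain ⟨v, hv, htv⟩ := R.eigen_tc g₀ k hk
    generalize 2 * cos (2 * π * k / orderOf g₀) = r at htv ⊢
    have h1 := LinearMap.congr_fun hA v
    rw [LinearMap.smul_apply, htv, LinearMap.sub_apply, LinearMap.smul_apply, Module.End.one_apply,
      smul_smul] at h1
    have h2 : ((Complex.I • s) * (Complex.I • t) + (Complex.I • t) * (Complex.I • s)) v =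
        ((8 * r - 2 : ℝ) : ℂ) • v := by
      rw [smul_mul_smul_comm, smul_mul_smul_comm, Complex.I_mul_I, ← smul_add, neg_one_smul,
        LinearMap.neg_apply]
      rw [eq_sub_iff_add_eq, ← eq_sub_iff_add_eq'] at h1
      rw [h1, neg_sub, ← sub_smul]
      push_cast; ring_nf
    have hsq : ∀ u : Module.End ℂ U, u * u = (5 : ℂ) • 1 →
        (Complex.I • u) * (Complex.I • u) = -(((5 : ℝ) : ℂ) • 1) := by
      intro u hu
      rw [smul_mul_smul_comm, Complex.I_mul_I, hu, neg_one_smul]; norm_num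
    have := anticomm_bound _ _ (hskew s hsym) (hskew t htym) 5 5 (hsq s hs5) (hsq t ht5) _ v hv h2
    constructor <;> nlinarith
  have hlist := R.order_four_three p _ hp.1 hy
  simp only [Finset.mem_insert, Finset.mem_singleton] at hlist
  rcases hlist with h | h | h | h | h | h | h
  · exact R.eq_of_tc_three hb hp hq h
  · exfalso
    have hA0 := hA
    rw [R.tc_of_order_four _ h, smul_zero, eq_comm, sub_eq_zero] at hA0
    have hpq3 : orderOf (p * q) = 3 := by
      obtain ⟨v, hv⟩ := R.nonzero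
      refine R.order_three_of_tc_neg_one _ v hv ?_
      have := R.anticomm_of_tc_four hb hp hq h
      rw [tc, mul_inv_rev, map_mul, map_mul, R.inv_of_order_four p hp.1, R.inv_of_order_four q hq.1,
        neg_mul_neg, this]
      simp
    have hb1 : orderOf (i * b * i⁻¹) = 3 := (orderOf_conj' i b).trans hb
    have hB1 : (2 : ℂ) • R.ρ (i * b * i⁻¹) = -1 - V := by
      have hsum := R.frame_sum hb hi
      have hax : (2 : ℂ) • R.ρ b = -1 - (R.ρ i + R.ρ (b * i * b⁻¹) + R.ρ (b⁻¹ * i * b)) := by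
        rw [hsum, axis, two_smul, two_mul]; abel
      rw [map_mul, map_mul, R.inv_of_order_four i hi.1, ← smul_mul_assoc, ← mul_smul_comm, hax, hV]
      simp only [mul_add, mul_sub, sub_mul, add_mul, mul_neg, mul_one, one_mul, neg_mul, neg_neg,
        hquat.ii, hquat.ij, hquat.ik, hquat.ki, hquat.ji]
      abel
    have hVc : ∀ X, Commute X (R.ρ i) → Commute X (R.ρ (b * i * b⁻¹)) →
        Commute X (R.ρ (b⁻¹ * i * b)) → Commute X V := fun X h1 h2 h3 => (h1.sub_right h2).sub_right h3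
    have hsV := hVc s hsI hsJ hsK
    have htV := hVc t htI htJ htK
    have hcomm : Commute (R.ρ (p * q)) (R.ρ (i * b * i⁻¹)) := by
      have h1 : Commute ((16 : ℂ) • (R.ρ p * R.ρ q)) V := by
        rw [hPQ]
        have h6 : Commute (-(1 + 1 + 1 + 1 + 1 + 1 + (s * t + s * t))) V := by
          refine Commute.neg_left (Commute.add_left ?_ ((hsV.mul_left htV).add_left (hsV.mul_left htV)))
          repeat' apply Commute.add_left
          all_goals exact Commute.one_left _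
        exact h6.add_left (((Commute.refl V).mul_left (hsV.sub_left htV)).add_left
          ((Commute.refl V).mul_left (hsV.sub_left htV)))
      have h2 : Commute (R.ρ p * R.ρ q) V := by
        have := h1.smul_left (16 : ℂ)⁻¹
        rwa [smul_smul, inv_mul_cancel₀ (by norm_num : (16 : ℂ) ≠ 0), one_smul] at this
      have h3 : Commute (R.ρ p * R.ρ q) ((2 : ℂ) • R.ρ (i * b * i⁻¹)) := by
        rw [hB1]; exact ((Commute.one_right _).neg_right).sub_right h2
      have := h3.smul_right (2 : ℂ)⁻¹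
      rwa [smul_smul, inv_mul_cancel₀ (two_ne_zero : (2 : ℂ) ≠ 0), one_smul, ← map_mul] at this
    obtain ⟨ε, hε, hεeq⟩ : ∃ ε : ℂ, (ε = 1 ∨ ε = -1) ∧
        (2 : ℂ) • R.ρ (p * q) = -1 - ε • V := by
      by_cases hinv : R.ρ (p * q) = R.ρ (i * b * i⁻¹)⁻¹
      · refine ⟨-1, Or.inr rfl, ?_⟩
        rw [hinv, R.inv_of_order_three _ hb1, smul_sub, hB1, neg_one_smul, two_smul]; abel
      · refine ⟨1, Or.inl rfl, ?_⟩
        rw [one_smul, ← hB1]
        obtain ⟨v, hv⟩ : ∃ v, (R.ρ (p * q) - R.ρ (i * b * i⁻¹)⁻¹) v ≠ 0 := by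
          by_contra hcon
          push Not at hcon
          exact hinv (sub_eq_zero.mp (LinearMap.ext hcon))
        have hprod : (R.ρ (p * q) - R.ρ (i * b * i⁻¹)) * (R.ρ (p * q) - R.ρ (i * b * i⁻¹)⁻¹) = 0 := by
          rw [R.inv_of_order_three _ hb1]
          simp only [mul_sub, sub_mul, mul_neg, neg_mul, mul_one, one_mul, R.sq_of_order_three _ hb1,
            R.sq_of_order_three _ hpq3, hcomm.eq]
          abel
        have hfix : p * q = i * b * i⁻¹ := by
          have h1 := R.fpf ((i * b * i⁻¹)⁻¹ * (p * q))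
            ((R.ρ (p * q) - R.ρ (i * b * i⁻¹)⁻¹) v) ?_ hv
          · exact (inv_mul_eq_one.mp h1).symm
          · have h2 := LinearMap.congr_fun hprod v
            rw [Module.End.mul_apply, LinearMap.sub_apply, LinearMap.zero_apply, sub_eq_zero] at h2
            rw [map_mul, Module.End.mul_apply, h2, R.inv_apply_cancel]
        rw [hfix]
    have hXY : ((2 : ℂ) • (1 : Module.End ℂ U) - (2 : ℂ) • (s * t)) +
        V * ((2 : ℂ) • (s - t) + (8 * ε) • 1) = 0 := by
      have h1 : (16 : ℂ) • (R.ρ p * R.ρ q) = (8 : ℂ) • (-1 - ε • V) := by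
        rw [← hεeq, smul_smul, map_mul]; norm_num
      rw [hPQ, ← sub_eq_zero] at h1
      rw [← h1, mul_add, mul_smul_comm, mul_smul_comm, mul_one, smul_sub (8 : ℂ), smul_smul,
        show (8 : ℂ) • (-1 : Module.End ℂ U) = -((8 : ℂ) • 1) from smul_neg _ _,
        show (8 : ℂ) = 1 + 1 + 1 + 1 + 1 + 1 + 1 + 1 by norm_num, show (2 : ℂ) = 1 + 1 by norm_num]
      simp only [add_smul, one_smul, add_mul, one_mul]
      abel
    set Y := (2 : ℂ) • (s - t) + (8 * ε) • (1 : Module.End ℂ U) with hY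
    set X := (2 : ℂ) • (1 : Module.End ℂ U) - (2 : ℂ) • (s * t) with hX
    have hXI : Commute X (R.ρ i) :=
      ((Commute.one_left _).smul_left _).sub_left ((hsI.mul_left htI).smul_left _)
    have hYI : Commute Y (R.ρ i) :=
      ((hsI.sub_left htI).smul_left _).add_left ((Commute.one_left _).smul_left _)
    have hY0 : Y = 0 := by
      have h1 : R.ρ i * (X + V * Y) - (X + V * Y) * R.ρ i = 0 := by rw [hXY]; simp
      rw [mul_add, add_mul, ← hXI.eq, mul_assoc V Y, hYI.eq, add_sub_add_left_eq_sub, hV,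
        hquat.comm_axis] at h1
      have h2 := congrArg ((R.ρ (b * i * b⁻¹) - R.ρ (b⁻¹ * i * b)) * ·) h1
      rw [← mul_assoc, hquat.diff_sq, mul_zero, neg_mul, neg_eq_zero, add_mul, one_mul] at h2
      exact two_cancel _ (two_cancel _ h2)
    rw [hY0, mul_zero, add_zero, hX, sub_eq_zero] at hXY
    have hst : s * t = 1 := ((smul_right_inj (two_ne_zero (α := ℂ))).mp hXY).symm
    have htv : t = s + (4 * ε) • 1 := by
      have h1 := congrArg (fun Z : Module.End ℂ U => (2 : ℂ)⁻¹ • Z) hY0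
      simp only [hY, smul_add, smul_smul, inv_mul_cancel₀ (two_ne_zero : (2 : ℂ) ≠ 0), one_smul,
        smul_zero, show (2 : ℂ)⁻¹ * (8 * ε) = 4 * ε by ring] at h1
      rw [← sub_eq_zero, ← neg_eq_zero, ← h1]; abel
    rw [htv, mul_add, hs5, mul_smul_comm, mul_one] at hst
    have hse : (4 * ε) • s = (-4 : ℂ) • (1 : Module.End ℂ U) := by
      rw [show (-4 : ℂ) = 1 - 5 by norm_num, sub_smul, one_smul]
      exact eq_sub_of_add_eq' hst
    have hse2 : s = (-ε) • (1 : Module.End ℂ U) := by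
      have h1 := congrArg (fun Z : Module.End ℂ U => (ε / 4) • Z) hse
      simp only [smul_smul] at h1
      rcases hε with rfl | rfl <;> norm_num at h1 <;> rw [h1] <;> norm_num
    refine R.end_four_ne_zero ?_
    have h5 : ((-ε) * (-ε)) • (1 : Module.End ℂ U) = (5 : ℂ) • 1 := by
      rw [← hs5, hse2, smul_mul_smul_comm, one_mul]
    rw [show (4 : ℂ) = 5 - 1 by norm_num, sub_smul, ← h5]
    rcases hε with rfl | rfl <;> norm_num
  · exfalso
    have := (hrange 2 (by rw [h]; norm_num)).1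
    rw [h] at this
    push_cast at this
    rw [show 2 * π * 2 / 5 = π - π / 5 by ring, cos_pi_sub, cos_pi_div_five] at this
    nlinarith [Real.sq_sqrt (show (0 : ℝ) ≤ 5 by norm_num), Real.sqrt_nonneg 5]
  · exfalso
    obtain ⟨v, a, c, d, hv, hav, hcv, hdv, hsum, hsq⟩ := R.common_eigen hb hp hq
    rw [← hg₀, R.tc_of_order_six _ h, Module.End.one_apply] at hav
    have ha : a = 1 := Complex.ofReal_injective
      (smul_left_injective ℂ hv (show ((a : ℂ)) • v = ((1 : ℝ) : ℂ) • v by rw [← hav]; simp))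
    subst ha
    have hd : d = -c := by linarith
    subst hd
    have hc1 : c = 1 ∨ c = -1 := mul_self_eq_one_iff.mp (by linarith)
    obtain ⟨e1, e2, e3⟩ := conj_three (i := p) hb
    obtain ⟨x, hx, hxo, hxb⟩ : ∃ x, (x = b * p * b⁻¹ ∨ x = b⁻¹ * p * b) ∧
        orderOf (x * (q * b⁻¹ * q⁻¹)) = 3 ∧ IsFrame b x := by
      rcases hc1 with rfl | rfl
      · exact ⟨_, Or.inr rfl, R.order_three_of_tc_neg_one _ v hv (by rw [hdv]; simp), e1 ▸ hp.conj.conj⟩
      · exact ⟨_, Or.inl rfl, R.order_three_of_tc_neg_one _ v hv (by rw [hcv]; simp), hp.conj⟩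
    have hxq := R.eq_of_tc_three hb hxb hq hxo
    subst hxq
    obtain ⟨f1, f2, f3⟩ := conj_three (i := i) hb
    rcases hx with rfl | rfl
    · have h1 := R.anticomm_conj b i _ hnq
      rw [show b⁻¹ * (b * p * b⁻¹) * b = p by group] at h1
      exact hpK h1
    · have h1 := R.anticomm_conj b⁻¹ i _ hnq
      rw [inv_inv, show b * (b⁻¹ * p * b) * b⁻¹ = p by group] at h1
      exact hpJ h1
  · exfalso
    have := (hrange 3 (by rw [h]; norm_num)).1
    rw [h] at this
    push_cast at this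
    rw [show 2 * π * 3 / 8 = π - π / 4 by ring, cos_pi_sub, cos_pi_div_four] at this
    nlinarith [Real.sq_sqrt (show (0 : ℝ) ≤ 2 by norm_num), Real.sqrt_nonneg 2]
  · exfalso
    have := (hrange 1 (Nat.coprime_one_left _)).2
    rw [h] at this
    push_cast at this
    rw [show 2 * π * 1 / 10 = π / 5 by ring, cos_pi_div_five] at this
    nlinarith [Real.sq_sqrt (show (0 : ℝ) ≤ 5 by norm_num), Real.sqrt_nonneg 5]
  · exfalso
    have := (hrange 1 (Nat.coprime_one_left _)).2
    rw [h] at this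
    push_cast at this
    rw [show 2 * π * 1 / 12 = π / 6 by ring, cos_pi_div_six] at this
    nlinarith [Real.sq_sqrt (show (0 : ℝ) ≤ 3 by norm_num), Real.sqrt_nonneg 3]

end Rep

end H58.Zass
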